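import Cfsg.Agent.Lib.Helper39.BG11Defs
import Cfsg.Agent.Lib.Helper59.UniqueOdd
import Cfsg.Agent.Lib.Helper14.Sup
import Cfsg.Agent.S1412
import Cfsg.Agent.S1453

/-!
B-G section 11, rung 4a of the S1417 ladder: `C_S(A)` is abelian.
-/

set_option autoImplicit false

namespace Cfsg.Agent.Lib.Helper68.BG11

open Subgroup Cfsg.Agent.Lib.Helper30 Cfsg.Agent.Lib.Helper39.BG11

universe u

theorem comm_of_card_dvd_sq {H : Type*} [Group H] [Finite H] {p : ℕ} [hp : Fact p.Prime]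
    {D : Subgroup H} (h : Nat.card D ∣ p ^ 2) : ∀ x ∈ D, ∀ y ∈ D, x * y = y * x := by
  obtain ⟨k, hk, hc⟩ := (Nat.dvd_prime_pow hp.out).mp h
  have key : ∀ a b : D, a * b = b * a := by
    interval_cases k
    · rw [pow_zero] at hc
      have := (Nat.card_eq_one_iff_unique.mp hc).1
      intro a b
      rw [Subsingleton.elim a b]
    · rw [pow_one] at hc
      have := isCyclic_of_prime_card hc
      intro a b
      exact IsCyclic.commGroup.mul_comm a b
    · exact (IsPGroup.isMulCommutative_of_card_eq_prime_sq hc).is_comm.comm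
  intro x hx y hy
  exact congrArg Subtype.val (key ⟨x, hx⟩ ⟨y, hy⟩)

theorem card_dvd_of_lt {H : Type*} [Group H] [Finite H] {p : ℕ} [hp : Fact p.Prime]
    {D E : Subgroup H} {n : ℕ} (hE : Nat.card E = p ^ (n + 1)) (hDE : D ≤ E) (hne : D ≠ E) :
    Nat.card D ∣ p ^ n := by
  have h1 : Nat.card D ∣ p ^ (n + 1) := hE ▸ Subgroup.card_dvd_of_le hDE
  obtain ⟨k, hk, hc⟩ := (Nat.dvd_prime_pow hp.out).mp h1
  rcases Nat.lt_or_ge k (n + 1) with h | h
  · rw [hc]
    exact pow_dvd_pow p (by omega)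
  · exfalso
    apply hne
    have hk' : k = n + 1 := le_antisymm hk h
    subst hk'
    exact Subgroup.eq_of_le_of_card_ge hDE (by rw [hE, hc])

theorem mem_zpowers_of_card_prime {H : Type*} [Group H] [Finite H] {p : ℕ} [hp : Fact p.Prime]
    {D : Subgroup H} (h : Nat.card D ∣ p) {x y : H} (hx : x ∈ D) (hx1 : x ≠ 1) (hy : y ∈ D) :
    y ∈ zpowers x := by
  have hle : zpowers x ≤ D := by rwa [zpowers_le]
  have h1 : Nat.card (zpowers x) ∣ p := (Subgroup.card_dvd_of_le hle).trans h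
  have h2 : Nat.card (zpowers x) ≠ 1 := by
    intro h3
    rw [Nat.card_zpowers, orderOf_eq_one_iff] at h3
    exact hx1 h3
  have h3 : Nat.card (zpowers x) = p := ((Nat.dvd_prime hp.out).mp h1).resolve_left h2
  have h4 : zpowers x = D :=
    Subgroup.eq_of_le_of_card_ge hle (by rw [h3]; exact Nat.le_of_dvd hp.out.pos h)
  rw [h4]
  exact hy

theorem not_isCyclic_of_ea' {H : Type*} [Group H] {t : ℕ} [ht : Fact t.Prime] {D : Subgroup H}
    (hD : Cfsg.IsElementaryAbelian t D) (hc : Nat.card D = t ^ 2) : ¬ IsCyclic D := by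
  intro hcyc
  obtain ⟨g, hg⟩ := hcyc.exists_generator
  have h1 : Nat.card D = orderOf g := (orderOf_eq_card_of_forall_mem_zpowers hg).symm
  have h2 : orderOf g ∣ t := orderOf_dvd_of_pow_eq_one (Subtype.ext (hD.2 g g.2))
  have h3 := Nat.le_of_dvd ht.out.pos h2
  have h4 : t ^ 1 < t ^ 2 := Nat.pow_lt_pow_right ht.out.one_lt (by norm_num)
  rw [pow_one] at h4
  omega

variable {G : Type u} [Group G] [Finite G] {M A A₀ : Subgroup G} {p : ℕ} [Fact p.Prime]

/-- the central product case. -/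
theorem comm_case_one {S P₁ P₂ : Subgroup G} (hAS : A ≤ S)
    (hea : Cfsg.IsElementaryAbelian p A) (hc : Nat.card A = p ^ 2)
    (hsup : P₁ ⊔ P₂ = S) (hcomm : ∀ a ∈ P₁, ∀ b ∈ P₂, a * b = b * a)
    (hc3 : Nat.card P₁ = p ^ 3) (hcyc : IsCyclic P₂)
    (hcl : Subgroup.closure {x : G | x ∈ P₂ ∧ x ^ p = 1} = P₁ ⊓ Subgroup.centralizer (P₁ : Set G)) :
    ∀ x ∈ S ⊓ centralizer (A : Set G), ∀ y ∈ S ⊓ centralizer (A : Set G), x * y = y * x := by
  have hdec : ∀ x ∈ S, ∃ a ∈ P₁, ∃ b ∈ P₂, x = a * b := by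
    intro x hx
    rw [← hsup] at hx
    exact (Cfsg.Agent.Lib.Helper14.mem_sup_of_commute hcomm).mp hx
  have hP2 : ∀ b ∈ P₂, ∀ b' ∈ P₂, b * b' = b' * b := by
    intro b hb b' hb'
    exact congrArg Subtype.val (IsCyclic.commGroup.mul_comm (⟨b, hb⟩ : P₂) ⟨b', hb'⟩)
  have hmul : ∀ a ∈ P₁, ∀ b ∈ P₂, ∀ a' ∈ P₁, ∀ b' ∈ P₂,
      (a * b) * (a' * b') = (a * a') * (b * b') := by
    intro a _ b hb a' ha' b' _
    calc (a * b) * (a' * b') = a * (b * a') * b' := by group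
      _ = a * (a' * b) * b' := by rw [hcomm a' ha' b hb]
      _ = (a * a') * (b * b') := by group
  -- an element of `A` with noncentral `P₁`-part
  have hex : ∃ a ∈ P₁, ∃ b ∈ P₂, a * b ∈ A ∧ a ∉ centralizer (P₁ : Set G) := by
    by_contra hcon
    push Not at hcon
    have hAP2 : A ≤ P₂ := by
      intro u hu
      obtain ⟨a, ha, b, hb, rfl⟩ := hdec u (hAS hu)
      have h1 : a ∈ P₁ ⊓ centralizer (P₁ : Set G) := ⟨ha, hcon a ha b hb hu⟩
      rw [← hcl] at h1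
      have h2 : Subgroup.closure {x : G | x ∈ P₂ ∧ x ^ p = 1} ≤ P₂ := by
        rw [Subgroup.closure_le]
        intro x hx
        exact hx.1
      exact P₂.mul_mem (h2 h1) hb
    exact not_isCyclic_of_ea' hea hc
      (isCyclic_of_injective (Subgroup.inclusion hAP2) (Subgroup.inclusion_injective hAP2))
  obtain ⟨a, ha, b, hb, hab, hna⟩ := hex
  set D : Subgroup G := P₁ ⊓ centralizer ({a} : Set G) with hD
  have hDne : D ≠ P₁ := by
    intro h
    apply hna
    rw [mem_centralizer_iff]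
    intro s hs
    have hs' : s ∈ D := by rw [h]; exact hs
    exact ((mem_centralizer_singleton_iff.mp hs'.2))
  have hDc : ∀ x ∈ D, ∀ y ∈ D, x * y = y * x :=
    comm_of_card_dvd_sq (p := p) (card_dvd_of_lt hc3 inf_le_left hDne)
  have hpart : ∀ x ∈ S ⊓ centralizer (A : Set G), ∃ a₁ ∈ D, ∃ b₁ ∈ P₂, x = a₁ * b₁ := by
    intro x hx
    obtain ⟨a₁, ha₁, b₁, hb₁, rfl⟩ := hdec x hx.1
    refine ⟨a₁, ⟨ha₁, ?_⟩, b₁, hb₁, rfl⟩
    have h1 := (mem_centralizer_iff.mp hx.2) (a * b) hab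
    rw [hmul a ha b hb a₁ ha₁ b₁ hb₁, hmul a₁ ha₁ b₁ hb₁ a ha b hb, hP2 b hb b₁ hb₁] at h1
    show a₁ ∈ centralizer ({a} : Set G)
    rw [mem_centralizer_singleton_iff]
    exact (mul_right_cancel h1).symm
  intro x hx y hy
  obtain ⟨a₁, ha₁, b₁, hb₁, rfl⟩ := hpart x hx
  obtain ⟨a₂, ha₂, b₂, hb₂, rfl⟩ := hpart y hy
  rw [hmul a₁ ha₁.1 b₁ hb₁ a₂ ha₂.1 b₂ hb₂, hmul a₂ ha₂.1 b₂ hb₂ a₁ ha₁.1 b₁ hb₁,
    hDc a₁ ha₁ a₂ ha₂, hP2 b₁ hb₁ b₂ hb₂]

/-- the case of rank at least three, inside the `p`-group `R`. -/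
theorem comm_case_two {R : Type u} [Group R] [Finite R] (hp2 : p ≠ 2) (hR : IsPGroup p R)
    {E T : Subgroup R} [T.Normal] (hE2 : Nat.card E = p ^ 2) (hT : T.index = p) (hET : ¬ E ≤ T)
    (hom : ∀ x ∈ centralizer (E : Set R), x ^ p = 1 → x ∈ E) :
    ∀ x ∈ centralizer (E : Set R), ∀ y ∈ centralizer (E : Set R), x * y = y * x := by
  obtain ⟨x₀, hx₀E, hx₀T⟩ := SetLike.not_le_iff_exists.mp hET
  set W : Subgroup R := centralizer (E : Set R) ⊓ T with hW
  have hETc : Nat.card ↥(E ⊓ T) ∣ p := by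
    have := card_dvd_of_lt (p := p) (n := 1) (D := E ⊓ T) (E := E) hE2 inf_le_left
      (fun h => hET (h ▸ inf_le_right))
    rwa [pow_one] at this
  have hWcyc : IsCyclic W := by
    apply Cfsg.Agent.Lib.Helper59.isCyclic_of_unique_odd hp2 (hR.to_subgroup W)
    intro x y hx hy
    have key : ∀ w : W, orderOf w = p → (w : R) ∈ E ⊓ T ∧ (w : R) ≠ 1 := by
      intro w hw
      have hw1 : (w : R) ^ p = 1 := by
        have := pow_orderOf_eq_one w
        rw [hw] at this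
        exact congrArg Subtype.val this
      refine ⟨⟨hom _ w.2.1 hw1, w.2.2⟩, ?_⟩
      intro h
      have : w = 1 := Subtype.ext h
      rw [this, orderOf_one] at hw
      exact (Fact.out : p.Prime).one_lt.ne hw
    obtain ⟨hxZ, hx1⟩ := key x hx
    obtain ⟨hyZ, -⟩ := key y hy
    obtain ⟨k, hk⟩ := mem_zpowers_of_card_prime hETc hxZ hx1 hyZ
    exact ⟨k, Subtype.ext (by simpa using hk)⟩
  have hWc : ∀ b ∈ W, ∀ b' ∈ W, b * b' = b' * b := by
    intro b hb b' hb'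
    exact congrArg Subtype.val (IsCyclic.commGroup.mul_comm (⟨b, hb⟩ : W) ⟨b', hb'⟩)
  have hx₀C : ∀ k : ℤ, x₀ ^ k ∈ E := fun k => E.zpow_mem hx₀E k
  have hEab : ∀ e ∈ E, e ∈ centralizer (E : Set R) := by
    intro e he
    rw [mem_centralizer_iff]
    intro f hf
    exact comm_of_card_dvd_sq (p := p) (D := E) (by rw [hE2]) f hf e he
  have hdec : ∀ c ∈ centralizer (E : Set R), ∃ k : ℤ, ∃ t ∈ W, c = x₀ ^ k * t := by
    intro c hc
    have hcard : Nat.card (R ⧸ T) = p := hT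
    have hne : (QuotientGroup.mk x₀ : R ⧸ T) ≠ 1 := by
      intro h
      exact hx₀T ((QuotientGroup.eq_one_iff x₀).mp h)
    obtain ⟨k, hk⟩ := mem_zpowers_of_prime_card hcard hne (g' := (QuotientGroup.mk c : R ⧸ T))
    have hk' : (QuotientGroup.mk (x₀ ^ k) : R ⧸ T) = QuotientGroup.mk c := by
      rw [← hk]; rfl
    have h1 : (x₀ ^ k)⁻¹ * c ∈ T := QuotientGroup.eq.mp hk'
    refine ⟨k, (x₀ ^ k)⁻¹ * c, ⟨?_, h1⟩, by group⟩
    exact (centralizer (E : Set R)).mul_mem ((centralizer (E : Set R)).inv_mem (hEab _ (hx₀C k))) hc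
  intro x hx y hy
  obtain ⟨k, t, ht, rfl⟩ := hdec x hx
  obtain ⟨l, s, hs, rfl⟩ := hdec y hy
  have h1 : ∀ (j : ℤ), ∀ w ∈ W, w * x₀ ^ j = x₀ ^ j * w := by
    intro j w hw
    exact ((mem_centralizer_iff.mp hw.1) _ (hx₀C j)).symm
  calc x₀ ^ k * t * (x₀ ^ l * s) = x₀ ^ k * (t * x₀ ^ l) * s := by group
    _ = x₀ ^ k * (x₀ ^ l * t) * s := by rw [h1 l t ht]
    _ = (x₀ ^ k * x₀ ^ l) * (t * s) := by group
    _ = (x₀ ^ l * x₀ ^ k) * (s * t) := by
        rw [hWc t ht s hs, ← zpow_add, ← zpow_add, add_comm]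
    _ = x₀ ^ l * (x₀ ^ k * s) * t := by group
    _ = x₀ ^ l * (s * x₀ ^ k) * t := by rw [h1 k s hs]
    _ = x₀ ^ l * s * (x₀ ^ k * t) := by group

theorem comm_centralizer_in_sylow (hG : Cfsg.IsMinSimpleOddOrder G) (S : Sylow p G)
    (hAS : A ≤ (S : Subgroup G)) (hea : Cfsg.IsElementaryAbelian p A) (hc : Nat.card A = p ^ 2)
    (hom : ∀ x ∈ centralizer (A : Set G), x ^ p = 1 ↔ x ∈ A) :
    ∀ x ∈ (S : Subgroup G) ⊓ centralizer (A : Set G),
      ∀ y ∈ (S : Subgroup G) ⊓ centralizer (A : Set G), x * y = y * x := by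
  have hA1 : A ≠ ⊥ := by
    intro h
    rw [h, Subgroup.card_bot] at hc
    have := (Fact.out : p.Prime).one_lt
    have h2 : 1 < p ^ 2 := Nat.one_lt_pow (by norm_num) this
    omega
  have hp2 : p ≠ 2 :=
    Cfsg.Agent.Lib.Helper58.BG9.ne_two_of_isPGroup hG (Cfsg.Agent.Lib.Helper2.ea_isPGroup hea) hA1
  by_cases hr : Cfsg.PRankLE p 2 (S : Subgroup G)
  · rcases Cfsg.Agent.S1412.result hG p S hr with hab | ⟨P₁, P₂, hsup, hcomm, -, hc3, -, hcyc, hcl⟩
    · intro x hx y hy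
      exact congrArg Subtype.val (hab.is_comm.comm (⟨x, hx.1⟩ : (S : Subgroup G)) ⟨y, hy.1⟩)
    · exact comm_case_one hAS hea hc hsup hcomm hc3 hcyc hcl
  · set E : Subgroup (S : Subgroup G) := A.subgroupOf (S : Subgroup G) with hE
    have hmemE : ∀ x : (S : Subgroup G), x ∈ E ↔ (x : G) ∈ A := fun x => Subgroup.mem_subgroupOf
    have hEea : Cfsg.IsElementaryAbelian p E := by
      refine ⟨⟨⟨fun a b => ?_⟩⟩, ?_⟩
      · apply Subtype.ext
        apply Subtype.ext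
        exact Cfsg.Agent.Lib.Helper2.ea_comm hea ((hmemE _).mp a.2) ((hmemE _).mp b.2)
      · intro a ha
        apply Subtype.ext
        exact hea.2 _ ((hmemE _).mp ha)
    have hE2 : Nat.card E = p ^ 2 := by
      rw [← hc]
      exact Nat.card_congr (Subgroup.subgroupOfEquivOfLe hAS).toEquiv
    have hcent : ∀ x : (S : Subgroup G), x ∈ centralizer (E : Set (S : Subgroup G)) ↔
        (x : G) ∈ centralizer (A : Set G) := by
      intro x
      rw [mem_centralizer_iff, mem_centralizer_iff]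
      constructor
      · intro h a ha
        exact congrArg Subtype.val (h ⟨a, hAS ha⟩ ((hmemE _).mpr ha))
      · intro h a ha
        exact Subtype.ext (h a ((hmemE _).mp ha))
    have homE : ∀ x ∈ centralizer (E : Set (S : Subgroup G)), x ^ p = 1 → x ∈ E := by
      intro x hx hxp
      rw [hmemE]
      exact (hom _ ((hcent x).mp hx)).mp (congrArg Subtype.val hxp)
    have hEmax : ∀ B : Subgroup (S : Subgroup G), Cfsg.IsElementaryAbelian p B → E ≤ B → B = E := by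
      intro B hB hEB
      refine le_antisymm ?_ hEB
      intro b hb
      apply homE b _ (hB.2 b hb)
      rw [mem_centralizer_iff]
      intro e he
      exact Cfsg.Agent.Lib.Helper2.ea_comm hB (hEB he) hb
    obtain ⟨hnE, -, -, hchar, hidx⟩ :=
      Cfsg.Agent.S1453.result p hp2 S.isPGroup' hr E hEea hE2 hEmax
    have hnorm := @Subgroup.normal_of_characteristic _ _ _ hchar
    have key := comm_case_two hp2 S.isPGroup' hE2 hidx hnE homE
    intro x hx y hy
    exact congrArg Subtype.val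
      (key ⟨x, hx.1⟩ ((hcent _).mpr hx.2) ⟨y, hy.1⟩ ((hcent _).mpr hy.2))

end Cfsg.Agent.Lib.Helper68.BG11
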