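import Cfsg.Agent.Lib.Helper53.JC2Defs
import Cfsg.Agent.Lib.Helper53.JCAll
import Cfsg.Agent.Lib.Helper12.Card
import Cfsg.Agent.S2943

set_option autoImplicit false

/-! Ladder JC2, rung PP: the properties of `P = ⟨K, T⟩`. -/

namespace Cfsg.Agent.Lib.Helper68.JC2

open Cfsg Subgroup
open scoped commutatorElement
open Cfsg.Agent.Lib.Helper53 Cfsg.Agent.Lib.Helper53.JC Cfsg.Agent.Lib.Helper53.JC2

variable {G : Type*} [Group G]

/-- `K` does not normalize `T`. -/
theorem pp_not_le_normalizer {T K : Subgroup G} (hK : IsJComponent T K) (hT2 : IsPGroup 2 ↥T) :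
    ¬ K ≤ normalizer (T : Set G) := by
  intro h
  have h1 : K ≤ normalizer (JJ T : Set G) := h.trans (normalizer_le_normalizer_JJ T)
  have h2 : ⁅K, JJ T⁆ ≤ JJ T := by
    rw [Subgroup.commutator_le]
    intro k hk j hj
    rw [commutatorElement_def]
    exact (JJ T).mul_mem ((mem_normalizer_iff.1 (h1 hk) j).1 hj) ((JJ T).inv_mem hj)
  have h3 : K ≤ T := by
    have := hK.2.1
    exact (this.ge.trans h2).trans (JJ_le T)
  exact jc_not_isPGroup hK (hT2.to_le h3)

/-- index-two bookkeeping: a group `T` acting on `W`, centralizing a subgroup `Y` of index 2 and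
order 2: the centralizer of `W` in `T` has index at most 2. -/
theorem pp_relIndex_two {T W Y : Subgroup G} (hYW : Y ≤ W) (hY2 : Nat.card ↥Y = 2)
    (hW4 : Nat.card ↥W = 4) (hTW : T ≤ normalizer (W : Set G)) (hTY : T ≤ centralizer (Y : Set G))
    (hne : ¬ T ≤ centralizer (W : Set G)) :
    (T ⊓ centralizer (W : Set G)).relIndex T = 2 := by
  classical
  have hfin : Finite W := Nat.finite_of_card_ne_zero (by rw [hW4]; omega)
  have hidx : (Y.subgroupOf W).index = 2 := by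
    have hc := Subgroup.relIndex_mul_relIndex ⊥ Y W bot_le hYW
    rw [Subgroup.relIndex_bot_left, Subgroup.relIndex_bot_left, hY2, hW4] at hc
    change Y.relIndex W = 2
    omega
  obtain ⟨y0', hy0', hy0u⟩ := (Nat.card_eq_two_iff' (1 : Y)).1 hY2
  obtain ⟨y0, hy0Y⟩ := y0'
  have hy01 : y0 ≠ 1 := fun h => hy0' (Subtype.ext h)
  have hYel : ∀ y ∈ Y, y = 1 ∨ y = y0 := by
    intro y hy
    by_cases h : y = 1
    · exact Or.inl h
    · exact Or.inr (congrArg Subtype.val (hy0u ⟨y, hy⟩ (fun h' => h (congrArg Subtype.val h'))))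
  have hy0sq : y0 * y0 = 1 := by
    rcases hYel _ (Y.mul_mem hy0Y hy0Y) with h | h
    · exact h
    · exact absurd (mul_eq_left.1 h) hy01
  -- an element of `W` outside `Y`
  have hex : ∃ w1 ∈ W, w1 ∉ Y := by
    by_contra hcon
    push Not at hcon
    have : W = Y := le_antisymm hcon hYW
    rw [this, hY2] at hW4
    omega
  obtain ⟨w1, hw1W, hw1Y⟩ := hex
  -- conjugation preserves Y
  have hconjY : ∀ t ∈ T, ∀ w, t * w * t⁻¹ ∈ Y ↔ w ∈ Y := by
    intro t ht w
    have hcy : ∀ y ∈ Y, t * y * t⁻¹ = y := by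
      intro y hy
      have := (mem_centralizer_iff.1 (hTY ht)) y hy
      rw [← this]; group
    constructor
    · intro h
      have h2 := hcy _ h
      have : t * w * t⁻¹ = w := by
        have h3 : t * (t * w * t⁻¹) * t⁻¹ = t * w * t⁻¹ := h2
        have h4 : t⁻¹ * (t * (t * w * t⁻¹) * t⁻¹) * t = t⁻¹ * (t * w * t⁻¹) * t := by rw [h3]
        calc t * w * t⁻¹ = t⁻¹ * (t * (t * w * t⁻¹) * t⁻¹) * t := by group
          _ = t⁻¹ * (t * w * t⁻¹) * t := h4
          _ = w := by group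
      rwa [this] at h
    · intro h
      rw [hcy _ h]; exact h
  have hcomm : ∀ t ∈ T, ∀ w ∈ W, t * w * t⁻¹ * w⁻¹ ∈ Y := by
    intro t ht w hw
    have hkw : t * w * t⁻¹ ∈ W := (mem_normalizer_iff.1 (hTW ht) _).1 hw
    have := Subgroup.mul_mem_iff_of_index_two hidx (a := ⟨t * w * t⁻¹, hkw⟩) (b := ⟨w⁻¹, inv_mem hw⟩)
    simp only [Subgroup.mem_subgroupOf, Subgroup.coe_mul] at this
    rw [this, inv_mem_iff]
    exact hconjY t ht w
  -- membership in the centralizer is detected on `w1`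
  have hdet : ∀ t ∈ T, (t ∈ centralizer (W : Set G) ↔ t * w1 * t⁻¹ * w1⁻¹ = 1) := by
    intro t ht
    constructor
    · intro h
      have := (mem_centralizer_iff.1 h) w1 hw1W
      rw [← this]; group
    · intro h
      have ht1 : t * w1 = w1 * t := by
        calc t * w1 = (t * w1 * t⁻¹ * w1⁻¹) * (w1 * t) := by group
          _ = w1 * t := by rw [h, one_mul]
      rw [mem_centralizer_iff]
      intro w hw
      by_cases hwY : w ∈ Y
      · exact (mem_centralizer_iff.1 (hTY ht)) w hwY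
      · have := Subgroup.mul_mem_iff_of_index_two hidx (a := ⟨w, hw⟩) (b := ⟨w1, hw1W⟩)
        simp only [Subgroup.mem_subgroupOf, Subgroup.coe_mul] at this
        have h2 : w * w1 ∈ Y := this.2 ⟨fun h => absurd h hwY, fun h => absurd h hw1Y⟩
        have h3 := (mem_centralizer_iff.1 (hTY ht)) _ h2
        -- (w*w1)*t = t*(w*w1)
        calc w * t = (w * w1 * t) * (t⁻¹ * w1⁻¹ * t) := by group
          _ = (t * (w * w1)) * (t⁻¹ * w1⁻¹ * t) := by rw [h3]
          _ = t * w * (t⁻¹ * (t * w1) * t⁻¹ * w1⁻¹ * t) := by group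
          _ = t * w * (t⁻¹ * (w1 * t) * t⁻¹ * w1⁻¹ * t) := by rw [ht1]
          _ = t * w := by group
  have hmul : ∀ a ∈ T, ∀ b ∈ T, (b * a) * w1 * (b * a)⁻¹ * w1⁻¹ =
      (a * w1 * a⁻¹ * w1⁻¹) * (b * w1 * b⁻¹ * w1⁻¹) := by
    intro a ha b hb
    have h1 := (mem_centralizer_iff.1 (hTY hb)) _ (hcomm a ha w1 hw1W)
    calc (b * a) * w1 * (b * a)⁻¹ * w1⁻¹ = (b * (a * w1 * a⁻¹ * w1⁻¹)) * (w1 * b⁻¹ * w1⁻¹) := by group
      _ = ((a * w1 * a⁻¹ * w1⁻¹) * b) * (w1 * b⁻¹ * w1⁻¹) := by rw [h1]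
      _ = _ := by group
  obtain ⟨a, haT, haC⟩ := SetLike.not_le_iff_exists.1 hne
  have hca : a * w1 * a⁻¹ * w1⁻¹ = y0 := by
    rcases hYel _ (hcomm a haT w1 hw1W) with h | h
    · exact absurd ((hdet a haT).2 h) haC
    · exact h
  change ((T ⊓ centralizer (W : Set G)).subgroupOf T).index = 2
  rw [Subgroup.index_eq_two_iff]
  refine ⟨⟨a, haT⟩, ?_⟩
  rintro ⟨b, hbT⟩
  simp only [Subgroup.mem_subgroupOf, Subgroup.coe_mul, Subgroup.mem_inf]
  have hba : b * a ∈ T := T.mul_mem hbT haT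
  rcases hYel _ (hcomm b hbT w1 hw1W) with h | h
  · right
    refine ⟨⟨hbT, (hdet b hbT).2 h⟩, ?_⟩
    rintro ⟨_, h2⟩
    have h3 := (hdet _ hba).1 h2
    rw [hmul a haT b hbT, hca, h, mul_one] at h3
    exact hy01 h3
  · left
    refine ⟨⟨hba, (hdet _ hba).2 ?_⟩, ?_⟩
    · rw [hmul a haT b hbT, hca, h, hy0sq]
    · rintro ⟨_, h2⟩
      have h3 := (hdet b hbT).1 h2
      rw [h] at h3
      exact hy01 h3

theorem pp [Finite G] {S : Sylow 2 G} {M T K L : Subgroup G} (c : C51 S M T K L) (f : AF S T K L)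
    (h : Concl51 S T K L) : PPr T K L := by
  have hK := f.jc
  have hKL : K ≤ L := le_sup_left.trans c.hKL
  have hTL : T ≤ L := f.syl.1
  have hPL : K ⊔ T ≤ L := sup_le hKL hTL
  have hZ0 : omegaCenterOf T = omegaCenterOf (JJ T) := by
    apply le_antisymm f.a4'
    rcases h.2 with h1 | h1 | h1
    · rw [← h1.1]; exact f.a4
    · rw [← h1.1]; exact f.a4
    · exact h1.1.ge
  have hZT : omegaCenterOf (JJ T) ≤ T ⊓ centralizer (T : Set G) := by
    rw [← hZ0]
    exact le_inf (omegaCenterOf_le T) (omegaCenterOf_le_centralizer T)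
  have hZW : T ⊓ centralizer (T : Set G) ⊓ wOf K ≠ ⊥ := by
    intro h0
    apply h.1
    rw [eq_bot_iff, ← h0]
    exact inf_le_inf_right _ hZT
  have nrm : T ≤ normalizer (K : Set G) :=
    Cfsg.Agent.S2943.result c.zn.hL c.zn.hN c.zn.hZ T f.hT2 f.hT1 L f.jo K hK hKL hZW
  have hPK : K ⊔ T ≤ normalizer (K : Set G) := sup_le le_normalizer nrm
  have hPW : K ⊔ T ≤ normalizer (wOf K : Set G) := hPK.trans (normalizer_le_normalizer_wOf K)
  have hsylL : IsSyl 2 T L := isSylowTwoIn_iff.1 f.syl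
  have hsylP : IsSyl 2 T (K ⊔ T) := hsylL.of_le le_sup_right hPL
  have hQT : pCoreOf 2 (K ⊔ T) ≤ T := pCoreOf_le_isSyl hsylP
  have hQL : pCoreOf 2 L ≤ pCoreOf 2 (K ⊔ T) :=
    le_pCoreOf ((pCoreOf_le_isSyl hsylL).trans le_sup_right)
      (hPL.trans (le_normalizer_pCoreOf 2 L)) (pCoreOf_isPGroup 2 L)
  have cen : centralizer (pCoreOf 2 (K ⊔ T) : Set G) ≤ pCoreOf 2 (K ⊔ T) :=
    ((centralizer_le hQL).trans f.jo.2.2).trans hQL
  have hTK : T ⊓ K = pCoreOf 2 K := by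
    have h1 : IsSyl 2 (T ⊓ K) K := hsylP.inf_normal le_sup_left hPK
    rcases jc_eq_or_eq hK (pCoreOf_le_isSyl h1) inf_le_right with h2 | h2
    · exact h2
    · exact absurd (f.hT2.to_le (h2.ge.trans inf_le_left)) (jc_not_isPGroup hK)
  have h3 : T.relIndex (K ⊔ T) = 3 := by
    have e1 := Helper12.card_sup_mul_card_inf' T K nrm
    have e2 := Helper12.relIndex_mul_card' (pCoreOf_le 2 K)
    have e3 := Helper12.relIndex_mul_card' (le_sup_right : T ≤ K ⊔ T)
    rw [hK.2.2.1] at e2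
    rw [hTK, ← e2, sup_comm, ← e3] at e1
    have hT0 : 0 < Nat.card T := Nat.card_pos
    have hQ0 : 0 < Nat.card (pCoreOf 2 K) := Nat.card_pos
    apply Nat.eq_of_mul_eq_mul_right (Nat.mul_pos hT0 hQ0)
    rw [← mul_assoc, e1]
    ring
  have hY2 : Nat.card ↥(omegaCenterOf (JJ T) ⊓ wOf K) = 2 := f.a5' K hK
  have hTY : T ≤ centralizer ((omegaCenterOf (JJ T) ⊓ wOf K : Subgroup G) : Set G) := by
    rw [le_centralizer_iff]
    exact (inf_le_left.trans hZT).trans inf_le_right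
  have hQW : pCoreOf 2 (K ⊔ T) ≤ centralizer (wOf K : Set G) := by
    have h1 := jc_wOf_irred hK (W₀ := wOf K ⊓ centralizer (pCoreOf 2 (K ⊔ T) : Set G)) inf_le_left
      (le_normalizer_inf (le_normalizer_wOf K)
        ((le_sup_left.trans (le_normalizer_pCoreOf 2 (K ⊔ T))).trans
          (normalizer_le_normalizer_cent _))) ?_
    · rw [le_centralizer_iff, ← h1]; exact inf_le_right
    · intro h0
      apply h.1
      rw [eq_bot_iff, ← h0]
      exact le_inf inf_le_right ((le_centralizer_iff.1 hTY).trans (centralizer_le hQT))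
  have hC2 : IsPGroup 2 ((K ⊔ T) ⊓ centralizer (wOf K : Set G) : Subgroup G) := by
    rintro ⟨x, hx⟩
    obtain ⟨n, hn⟩ := exists_pow_mem_of_mem_sup nrm f.hT2 (by rw [sup_comm]; exact hx.1)
    have h1 : x ^ 2 ^ n ∈ pCoreOf 2 K := by
      rw [← jc_inf_centralizer_wOf hK]
      exact ⟨hn, pow_mem hx.2 _⟩
    obtain ⟨m, hm⟩ := pCoreOf_isPGroup 2 K ⟨_, h1⟩
    refine ⟨n + m, Subtype.ext ?_⟩
    have := congrArg Subtype.val hm
    simpa [pow_add, pow_mul] using this
  have hCQ : (K ⊔ T) ⊓ centralizer (wOf K : Set G) ≤ pCoreOf 2 (K ⊔ T) :=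
    le_pCoreOf inf_le_left
      (le_normalizer_inf le_normalizer (hPW.trans (normalizer_le_normalizer_cent _))) hC2
  have hQeq : pCoreOf 2 (K ⊔ T) = T ⊓ centralizer (wOf K : Set G) :=
    le_antisymm (le_inf hQT hQW) ((inf_le_inf_right _ le_sup_right).trans hCQ)
  have hTnC : ¬ T ≤ centralizer (wOf K : Set G) := by
    intro h0
    have e : pCoreOf 2 (K ⊔ T) = T := by rw [hQeq, inf_of_le_left h0]
    have h1 := le_normalizer_pCoreOf 2 (K ⊔ T)
    rw [e] at h1
    exact pp_not_le_normalizer hK f.hT2 (le_sup_left.trans h1)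
  have h2 : (pCoreOf 2 (K ⊔ T)).relIndex T = 2 := by
    rw [hQeq]
    exact pp_relIndex_two inf_le_right hY2 hK.2.2.2.2.1 (le_sup_right.trans hPW) hTY hTnC
  have h6 : (pCoreOf 2 (K ⊔ T)).relIndex (K ⊔ T) = 6 := by
    rw [← Subgroup.relIndex_mul_relIndex _ T _ hQT le_sup_right, h2, h3]
  have nab : ¬ ⁅K ⊔ T, K ⊔ T⁆ ≤ pCoreOf 2 (K ⊔ T) := by
    intro h0
    apply pp_not_le_normalizer hK f.hT2
    have key : ∀ k ∈ K, ∀ t ∈ T, k * t * k⁻¹ ∈ T := by
      intro k hk t ht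
      have h1 : ⁅k, t⁆ ∈ T :=
        hQT (h0 (Subgroup.commutator_mem_commutator (le_sup_left (a := K) (b := T) hk)
          (le_sup_right (a := K) (b := T) ht)))
      have h4 : k * t * k⁻¹ = ⁅k, t⁆ * t := by rw [commutatorElement_def]; group
      rw [h4]
      exact T.mul_mem h1 ht
    intro k hk
    rw [mem_normalizer_iff]
    intro t
    refine ⟨key k hk t, fun h1 => ?_⟩
    have := key k⁻¹ (K.inv_mem hk) _ h1
    simpa [mul_assoc] using this
  have hZ : ⁅omegaCenterOf T, K ⊔ T⁆ ≠ ⊥ := by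
    intro h0
    rw [Subgroup.commutator_eq_bot_iff_le_centralizer] at h0
    apply h.1
    rw [eq_bot_iff, ← jc_wOf_inf_centralizer hK]
    refine le_inf inf_le_right (inf_le_left.trans ?_)
    rw [← hZ0]
    exact h0.trans (centralizer_le (le_sup_left : K ≤ K ⊔ T))
  exact ⟨nrm, cen, isSylowTwoIn_iff.2 hsylP, h6, nab, hZ, c.hLmax, hPL, f.syl,
    fun L' h1 h2 => f.uniq L' h1 ((sup_le_sup_left (JJ_le T) K).trans h2)⟩

end Cfsg.Agent.Lib.Helper68.JC2
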