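import Cfsg.Agent.Lib.Helper53.JC2Asm
import Cfsg.Agent.Lib.Helper53.SA2Defs
import Cfsg.Agent.Lib.Helper53.BALoc1
import Cfsg.Agent.Lib.Helper53.JC3BH

set_option autoImplicit false

/-! Ladder JC3, rung CI ("case I" is impossible), with the rungs CK and X0 as hypotheses. -/

namespace Cfsg.Agent.Lib.Helper68.JC3

open Cfsg Subgroup
open Cfsg.Agent.Lib.Helper53
open Cfsg.Agent.Lib.Helper53.JC Cfsg.Agent.Lib.Helper53.JC2
open Cfsg.Agent.Lib.Helper53.SA (ZP)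
open Cfsg.Agent.Lib.Helper53.SA2 (BHyp Loc1)

variable {G : Type*} [Group G] [Finite G]

omit [Finite G] in
theorem ci_mul_mem {A Q : Subgroup G} (h : A.relIndex Q = 2) {a b : G} (ha : a ∈ Q) (hb : b ∈ Q)
    (ha' : a ∉ A) (hb' : b ∉ A) : a * b ∈ A := by
  have h1 := Subgroup.mul_mem_iff_of_index_two (H := A.subgroupOf Q) h (a := ⟨a, ha⟩) (b := ⟨b, hb⟩)
  simp only [mem_subgroupOf] at h1
  exact h1.2 ⟨fun h => absurd h ha', fun h => absurd h hb'⟩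

omit [Finite G] in
theorem ci_le_ne {A B Q : Subgroup G} (hA : A ≤ Q) (hA2 : A.relIndex Q = 2)
    (hB2 : B.relIndex Q = 2) (hne : A ≠ B) : ¬ B ≤ A := by
  intro hBA
  rcases eq_or_eq_of_relIndex_prime Nat.prime_two hBA hA hB2 with h' | h'
  · exact hne h'
  · rw [h', relIndex_self] at hA2; omega

omit [Finite G] in
theorem ci_sup_eq {A B Q : Subgroup G} (hA : A ≤ Q) (hB : B ≤ Q) (hA2 : A.relIndex Q = 2)
    (hB2 : B.relIndex Q = 2) (hne : A ≠ B) : A ⊔ B = Q := by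
  rcases eq_or_eq_of_relIndex_prime Nat.prime_two le_sup_left (sup_le hA hB) hA2 with h | h
  · exact absurd (h ▸ le_sup_right) (ci_le_ne hA hA2 hB2 hne)
  · exact h

omit [Finite G] in
theorem ci_comm {A : Subgroup G} (e : ∀ g ∈ A, g * g = 1) : A ≤ centralizer (A : Set G) := by
  intro a ha
  rw [mem_centralizer_iff]
  intro b hb
  have h1 := e a ha
  have h2 := e b hb
  have h3 := e (a * b) (mul_mem ha hb)
  have h4 : a⁻¹ = a := inv_eq_of_mul_eq_one_left h1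
  have h5 : b⁻¹ = b := inv_eq_of_mul_eq_one_left h2
  have h6 : (a * b)⁻¹ = a * b := inv_eq_of_mul_eq_one_left h3
  rw [mul_inv_rev, h4, h5] at h6
  exact h6

omit [Finite G] in
theorem ci_exp_cj {A : Subgroup G} (e : ∀ g ∈ A, g * g = 1) (g : G) : ∀ a ∈ cjj g A, a * a = 1 := by
  rintro _ ⟨a, ha, rfl⟩
  have := e a ha
  simp only [MulEquiv.coe_toMonoidHom, MulAut.conj_apply]
  calc g * a * g⁻¹ * (g * a * g⁻¹) = g * (a * a) * g⁻¹ := by group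
    _ = 1 := by rw [this]; group

omit [Finite G] in
theorem ci_inf_le {Q D E : Subgroup G} (hDE : D ⊔ E = Q) (hD : D ≤ Q)
    (eD : ∀ g ∈ D, g * g = 1) (eE : ∀ g ∈ E, g * g = 1) :
    D ⊓ E ≤ Q ⊓ centralizer (Q : Set G) := by
  intro z hz
  obtain ⟨h1, h2⟩ := Subgroup.mem_inf.1 hz
  refine Subgroup.mem_inf.2 ⟨hD h1, ?_⟩
  have h3 : D ≤ centralizer ({z} : Set G) := by
    intro d hd
    rw [mem_centralizer_singleton_iff]
    exact mem_centralizer_iff.1 (ci_comm eD h1) d hd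
  have h4 : E ≤ centralizer ({z} : Set G) := by
    intro d hd
    rw [mem_centralizer_singleton_iff]
    exact mem_centralizer_iff.1 (ci_comm eE h2) d hd
  have h5 : Q ≤ centralizer ({z} : Set G) := hDE ▸ sup_le h3 h4
  rw [mem_centralizer_iff]
  intro q hq
  exact mem_centralizer_singleton_iff.1 (h5 hq)

omit [Finite G] in
theorem ci_three {Q D E F : Subgroup G} (hD : D ≤ Q) (hE : E ≤ Q) (hF : F ≤ Q)
    (hD2 : D.relIndex Q = 2) (hE2 : E.relIndex Q = 2) (hF2 : F.relIndex Q = 2)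
    (hDE : D ≠ E) (hEF : E ≠ F) (hDF : D ≠ F)
    (eD : ∀ g ∈ D, g * g = 1) (eE : ∀ g ∈ E, g * g = 1) (eF : ∀ g ∈ F, g * g = 1)
    (hZD : Q ⊓ centralizer (Q : Set G) ≤ D) (hZF : Q ⊓ centralizer (Q : Set G) ≤ F) :
    ∀ g ∈ Q, g * g = 1 := by
  intro g hg
  obtain ⟨u, huF, huD⟩ : ∃ u ∈ F, u ∉ D := by
    by_contra hcon
    push Not at hcon
    exact ci_le_ne hD hD2 hF2 hDF hcon
  have huE : u ∉ E := fun h =>
    huD (hZD (ci_inf_le (ci_sup_eq hE hF hE2 hF2 hEF) hE eE eF (Subgroup.mem_inf.2 ⟨h, huF⟩)))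
  by_cases h1 : g ∈ D
  · exact eD g h1
  by_cases h2 : g ∈ E
  · exact eE g h2
  have h3 : g * u ∈ D := ci_mul_mem hD2 hg (hF huF) h1 huD
  have h4 : g * u ∈ E := ci_mul_mem hE2 hg (hF huF) h2 huE
  have h5 : g * u ∈ F :=
    hZF (ci_inf_le (ci_sup_eq hD hE hD2 hE2 hDE) hD eD eE (Subgroup.mem_inf.2 ⟨h3, h4⟩))
  have h6 : g ∈ F := by
    have : g = g * u * u⁻¹ := by group
    rw [this]; exact mul_mem h5 (inv_mem huF)
  exact eF g h6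

omit [Finite G] in
theorem ci_norm {P₁ P₂ T : Subgroup G} (l₁ : Loc1 P₁ T) (l₂ : Loc1 P₂ T)
    (hV : P₁ ≤ normalizer ((ZP P₁ T ⊔ ZP P₂ T : Subgroup G) : Set G)) :
    P₁ ≤ normalizer ((QQ P₁ ⊓ QQ P₂ : Subgroup G) : Set G) := by
  have heq : QQ P₁ ⊓ QQ P₂ = P₁ ⊓ centralizer ((ZP P₁ T ⊔ ZP P₂ T : Subgroup G) : Set G) := by
    apply le_antisymm
    · intro g hg
      obtain ⟨h1, h2⟩ := Subgroup.mem_inf.1 hg
      refine Subgroup.mem_inf.2 ⟨l₁.TP (l₁.QT h1), ?_⟩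
      have h3 : ZP P₁ T ≤ centralizer ({g} : Set G) := by
        intro z hz
        rw [mem_centralizer_singleton_iff]
        exact mem_centralizer_iff.1 (l₁.QZ h1) z hz
      have h4 : ZP P₂ T ≤ centralizer ({g} : Set G) := by
        intro z hz
        rw [mem_centralizer_singleton_iff]
        exact mem_centralizer_iff.1 (l₂.QZ h2) z hz
      rw [mem_centralizer_iff]
      intro z hz
      exact mem_centralizer_singleton_iff.1 (sup_le h3 h4 hz)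
    · intro g hg
      obtain ⟨h1, h2⟩ := Subgroup.mem_inf.1 hg
      have h3 : g ∈ QQ P₁ := l₁.CZ (Subgroup.mem_inf.2 ⟨h1, centralizer_le (SetLike.coe_subset_coe.2 (le_sup_left : ZP P₁ T ≤ ZP P₁ T ⊔ ZP P₂ T)) h2⟩)
      exact Subgroup.mem_inf.2
        ⟨h3, l₂.CZ (Subgroup.mem_inf.2 ⟨l₂.TP (l₁.QT h3), centralizer_le (SetLike.coe_subset_coe.2 (le_sup_right : ZP P₂ T ≤ ZP P₁ T ⊔ ZP P₂ T)) h2⟩)⟩
  rw [heq]
  refine le_normalizer_inf le_normalizer (hV.trans ?_)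
  intro g hg
  rw [← cj_eq_self_iff] at hg ⊢
  rw [← centralizer_cj, hg]

omit [Finite G] in
theorem ci_mono {A B : Subgroup G} (g : G) (h : A ≤ B) : cjj g A ≤ cjj g B := cj_mono g h

omit [Finite G] in
theorem ci_pCoreOf (K : Subgroup G) (g : G) : pCoreOf 2 (cjj g K) = cjj g (pCoreOf 2 K) :=
  pCoreOf_cj 2 K g

omit [Finite G] in
theorem ci_normalizer (Q : Subgroup G) (g : G) :
    normalizer ((cjj g Q : Subgroup G) : Set G) = cjj g (normalizer (Q : Set G)) := normalizer_cj Q g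

omit [Finite G] in
theorem ci_centralizer (Q : Subgroup G) (g : G) :
    centralizer ((cjj g Q : Subgroup G) : Set G) = cjj g (centralizer (Q : Set G)) :=
  centralizer_cj Q g

omit [Finite G] in
theorem ci_inf (Q R : Subgroup G) (g : G) : cjj g (Q ⊓ R) = cjj g Q ⊓ cjj g R := cj_inf Q R g

omit [Finite G] in
theorem ci_mem {Q : Subgroup G} {g x : G} : x ∈ cjj g Q ↔ g⁻¹ * x * g ∈ Q := mem_cj

omit [Finite G] in
theorem ci_cj (Q : Subgroup G) (g h : G) : cjj h (cjj g Q) = cjj (h * g) Q := cj_cj Q g h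

omit [Finite G] in
theorem ci_self {Q : Subgroup G} {g : G} : cjj g Q = Q ↔ g ∈ normalizer (Q : Set G) :=
  cj_eq_self_iff

theorem ci_core {P₁ P₂ T X0 D : Subgroup G} (hTP₁ : T ≤ P₁)
    (hcore : ∀ N : Subgroup G, N ≤ T → P₁ ≤ normalizer (N : Set G) → P₂ ≤ normalizer (N : Set G) →
      N = ⊥)
    (syl₂ : IsSylowTwoIn T P₂) (h6₂ : (pCoreOf 2 P₂).relIndex P₂ = 6) (l₂ : Loc1 P₂ T)
    (hD : P₁ ≤ normalizer (D : Set G))
    (ha : IsSylowTwoIn (QQ P₂) X0) (hb : pCoreOf 2 X0 = D) (hc : D.relIndex X0 = 6)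
    (hd : X0 ⊓ centralizer (D : Set G) ≤ D)
    (he : X0 ≤ ⨆ g : ↥X0, cjj (g : G) (QQ P₂))
    (hck : ∀ {Ls X Q : Subgroup G}, IsTwoLocal Ls → T ≤ Ls → X ≤ Ls →
      Q ≤ T → Q ≤ X → pCoreOf 2 X ≤ Q → X ≤ ⨆ g : X, cjj (g : G) Q →
      ∀ {x : G}, x ∈ T → Q ≤ pCoreOf 2 X ⊔ cjj x (pCoreOf 2 X) → Q ≤ pCoreOf 2 X) : False := by
  obtain ⟨hDQ, hDQ2, -⟩ := BA.indices ha (by rw [hb]; exact hc)
  rw [show QQ X0 = D from hb] at hDQ hDQ2
  obtain ⟨hQT, hQT2, -⟩ := BA.indices syl₂ h6₂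
  obtain ⟨h₀, hh₀P, hh₀T⟩ := l₂.exm
  obtain ⟨x, hxT, hxQ⟩ : ∃ x ∈ T, x ∉ QQ P₂ := by
    by_contra hcon
    push Not at hcon
    have h1 : T ≤ QQ P₂ := hcon
    have h2 := relIndex_eq_one.2 h1
    omega
  have hPN : P₂ ≤ normalizer (QQ P₂ : Set G) := le_normalizer_pCoreOf 2 P₂
  have hh₀Q : cjj h₀ (QQ P₂) = QQ P₂ := cj_eq_self_iff.2 (hPN hh₀P)
  have hxQn : cjj x (QQ P₂) = QQ P₂ := cj_eq_self_iff.2 (hPN (l₂.TP hxT))
  have hxx : x * x ∈ QQ P₂ := l₂.ind2 x x hxT hxT hxQ hxQ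
  have hTD : T ≤ normalizer (D : Set G) := hTP₁.trans hD
  have hDgQ : cjj h₀ D ≤ QQ P₂ := by
    have := ci_mono h₀ hDQ
    rwa [hh₀Q] at this
  have hDaQ : cjj x (cjj h₀ D) ≤ QQ P₂ := by
    have := ci_mono x hDgQ
    rwa [hxQn] at this
  have hDg2 : (cjj h₀ D).relIndex (QQ P₂) = 2 := by
    have := relIndex_cj h₀ D (QQ P₂)
    rw [hh₀Q] at this
    rw [this]; exact hDQ2
  have hDa2 : (cjj x (cjj h₀ D)).relIndex (QQ P₂) = 2 := by
    have := relIndex_cj x (cjj h₀ D) (QQ P₂)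
    rw [hxQn] at this
    rw [this]; exact hDg2
  have hD1 : D ≠ ⊥ := by
    intro h0
    have h1 : X0 ≤ D := fun y hy => hd (Subgroup.mem_inf.2 ⟨hy, by
      rw [h0, mem_centralizer_iff]
      intro z hz
      have : z = 1 := by simpa using hz
      rw [this]; simp⟩)
    have h2 := relIndex_eq_one.2 h1
    omega
  have hnoP₂ : ¬ P₂ ≤ normalizer (D : Set G) := fun h2 => hD1 (hcore D (hDQ.trans hQT) hD h2)
  have hne1 : D ≠ cjj h₀ D := by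
    intro heq
    exact hnoP₂ (l₂.max h₀ hh₀P hh₀T _ hTD (cj_eq_self_iff.1 heq.symm))
  have hne2 : cjj h₀ D ≠ cjj x (cjj h₀ D) := by
    intro heq
    have h1 : x ∈ normalizer ((cjj h₀ D : Subgroup G) : Set G) := cj_eq_self_iff.1 heq.symm
    rw [ci_normalizer, ci_mem] at h1
    have h3 : h₀⁻¹ * x * h₀ ∉ T := fun h' =>
      hxQ (l₂.inter h₀ hh₀P hh₀T (Subgroup.mem_inf.2 ⟨hxT, mem_cj.2 h'⟩))
    have h5 : h₀⁻¹ * x * h₀ ∈ P₂ := mul_mem (mul_mem (inv_mem hh₀P) (l₂.TP hxT)) hh₀P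
    exact hnoP₂ (l₂.max _ h5 h3 _ hTD h1)
  have hne3 : D ≠ cjj x (cjj h₀ D) := by
    intro heq
    apply hne1
    have h1 : cjj x D = D := cj_eq_self_iff.2 (hTD hxT)
    have h2 : cjj x D = cjj x (cjj h₀ D) := h1.trans heq
    have h3 := congrArg (cjj x⁻¹) h2
    rwa [cjj_inv_cjj, cjj_inv_cjj] at h3
  have hQXs : QQ P₂ ≤ cjj h₀ X0 := by
    have := ci_mono h₀ ha.1
    rwa [hh₀Q] at this
  have hcoreX : pCoreOf 2 (cjj h₀ X0) = cjj h₀ D := by rw [ci_pCoreOf, hb]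
  have hnle : ¬ QQ P₂ ≤ cjj h₀ D := by
    intro h1
    have h2 := relIndex_eq_one.2 h1
    omega
  by_cases hN : ∃ N : Subgroup G, N ≠ ⊥ ∧ N ≤ QQ P₂ ∧ cjj h₀ X0 ≤ normalizer (N : Set G) ∧
      x ∈ normalizer (N : Set G)
  · obtain ⟨N, hN1, hNQ, hXN, hxN⟩ := hN
    have hLs : IsTwoLocal (normalizer (N : Set G)) :=
      ⟨N, (pCoreOf_isPGroup 2 P₂).to_le hNQ, hN1, rfl⟩
    have hTLs : T ≤ normalizer (N : Set G) := by
      intro t ht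
      by_cases htQ : t ∈ QQ P₂
      · exact hXN (hQXs htQ)
      · have h1 := l₂.ind2 x t hxT ht hxQ htQ
        have h2 := hXN (hQXs h1)
        have h3 : t = x⁻¹ * (x * t) := by group
        rw [h3]; exact mul_mem (inv_mem hxN) h2
    have hgen : cjj h₀ X0 ≤ ⨆ g : ↥(cjj h₀ X0), cjj (g : G) (QQ P₂) := by
      refine (ci_mono h₀ he).trans ?_
      show (⨆ g : ↥X0, cjj (g : G) (QQ P₂)).map _ ≤ _
      rw [Subgroup.map_iSup]
      refine iSup_le fun g => ?_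
      have h1 : cjj h₀ (cjj (g : G) (QQ P₂)) = cjj (h₀ * g * h₀⁻¹) (QQ P₂) := by
        conv_rhs => rw [← hh₀Q]
        rw [ci_cj, ci_cj]
        congr 1
        group
      have h2 : cjj h₀ (cjj (g : G) (QQ P₂)) ≤ ⨆ g : ↥(cjj h₀ X0), cjj (g : G) (QQ P₂) := by
        rw [h1]
        exact le_iSup (fun g' : ↥(cjj h₀ X0) => cjj (g' : G) (QQ P₂)) ⟨h₀ * g * h₀⁻¹, cj_mem h₀ g.2⟩
      exact h2
    have h1 := hck hLs hTLs hXN hQT hQXs (hcoreX ▸ hDgQ) hgen hxT (by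
      rw [hcoreX]; exact (ci_sup_eq hDgQ hDaQ hDg2 hDa2 hne2).ge)
    rw [hcoreX] at h1
    exact hnle h1
  · push Not at hN
    have hQ1 : QQ P₂ ≠ ⊥ := fun h0 => hD1 (le_bot_iff.1 (h0 ▸ hDQ))
    have hyp : SA.Hyp (cjj h₀ X0) (QQ P₂) x :=
      { syl := by
          have := isSylowTwoIn_cj h₀ ha
          rwa [hh₀Q] at this
        hx := hPN (l₂.TP hxT)
        hx2 := hxx
        h6 := by
          rw [hcoreX, relIndex_cj]; exact hc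
        hchar := by
          rw [hcoreX, ci_centralizer, ← ci_inf]; exact ci_mono h₀ hd
        hZ := by
          intro hcen
          refine hN (omegaCenterOf (QQ P₂))
            (Helper56.JC2.omegaCenterOf_ne_bot (pCoreOf_isPGroup 2 P₂) hQ1)
            (omegaCenterOf_le _) ?_ (normalizer_le_normalizer_omegaCenterOf _ (hPN (l₂.TP hxT)))
          exact hcen.trans (centralizer_le_normalizer _)
        hcore := fun N hNQ hXN hxN => by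
          by_contra hN1
          exact hN N hN1 hNQ hXN hxN }
    have eDg : ∀ g ∈ cjj h₀ D, g * g = 1 := by
      have := SA.mainSt (cjj h₀ X0) (QQ P₂) x hyp
      rwa [hcoreX] at this
    have eD : ∀ g ∈ D, g * g = 1 := by
      have := ci_exp_cj eDg h₀⁻¹
      rwa [cjj_inv_cjj] at this
    have eDa : ∀ g ∈ cjj x (cjj h₀ D), g * g = 1 := ci_exp_cj eDg x
    have hZD : QQ P₂ ⊓ centralizer (QQ P₂ : Set G) ≤ D := by
      intro z hz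
      obtain ⟨h1, h2⟩ := Subgroup.mem_inf.1 hz
      exact hd (Subgroup.mem_inf.2 ⟨ha.1 h1, centralizer_le (SetLike.coe_subset_coe.2 hDQ) h2⟩)
    have hZ1 : cjj h₀ (QQ P₂ ⊓ centralizer (QQ P₂ : Set G)) = QQ P₂ ⊓ centralizer (QQ P₂ : Set G) := by
      rw [ci_inf, ← ci_centralizer, hh₀Q]
    have hZ2 : cjj x (QQ P₂ ⊓ centralizer (QQ P₂ : Set G)) = QQ P₂ ⊓ centralizer (QQ P₂ : Set G) := by
      rw [ci_inf, ← ci_centralizer, hxQn]
    have hZDa : QQ P₂ ⊓ centralizer (QQ P₂ : Set G) ≤ cjj x (cjj h₀ D) := by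
      have := ci_mono x (ci_mono h₀ hZD)
      rwa [hZ1, hZ2] at this
    have hexp := ci_three hDQ hDgQ hDaQ hDQ2 hDg2 hDa2 hne1 hne2 hne3 eD eDg eDa hZD hZDa
    have h1 : QQ P₂ ≤ D := fun q hq => hZD (Subgroup.mem_inf.2 ⟨hq, ci_comm hexp hq⟩)
    have h2 := relIndex_eq_one.2 h1
    omega

/-- Rung CI with the rungs CK and X0 as hypotheses. -/
theorem caseI_of (S : Sylow 2 G)
    (hck : ∀ {Ls X Q : Subgroup G}, IsTwoLocal Ls → (S : Subgroup G) ≤ Ls → X ≤ Ls →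
      Q ≤ (S : Subgroup G) → Q ≤ X → pCoreOf 2 X ≤ Q → X ≤ ⨆ g : X, cjj (g : G) Q →
      ∀ {x : G}, x ∈ (S : Subgroup G) → Q ≤ pCoreOf 2 X ⊔ cjj x (pCoreOf 2 X) → Q ≤ pCoreOf 2 X)
    (hx0 : ∀ {P₁ P₂ T K : Subgroup G}, BHyp P₁ P₂ T →
      P₁ ≤ normalizer ((QQ P₁ ⊓ QQ P₂ : Subgroup G) : Set G) → P₁ = K ⊔ T →
      T ≤ normalizer (K : Set G) → (pCoreOf 2 K).relIndex K = 3 →
      closure {g : G | g ∈ K ∧ Odd (orderOf g)} = K →
      IsSylowTwoIn (QQ P₂) (K ⊔ QQ P₂) ∧ pCoreOf 2 (K ⊔ QQ P₂) = QQ P₁ ⊓ QQ P₂ ∧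
        (QQ P₁ ⊓ QQ P₂).relIndex (K ⊔ QQ P₂) = 6 ∧
        (K ⊔ QQ P₂) ⊓ centralizer ((QQ P₁ ⊓ QQ P₂ : Subgroup G) : Set G) ≤ QQ P₁ ⊓ QQ P₂ ∧
        K ⊔ QQ P₂ ≤ ⨆ g : ↥(K ⊔ QQ P₂), cjj (g : G) (QQ P₂))
    {K₁ L₁ K₂ L₂ : Subgroup G} (jc₁ : IsJComponent (S : Subgroup G) K₁)
    (p₁ : PPr (S : Subgroup G) K₁ L₁) (p₂ : PPr (S : Subgroup G) K₂ L₂) (hne : L₁ ≠ L₂) :
    ¬ (K₁ ⊔ (S : Subgroup G)) ≤ normalizer ((ZP (K₁ ⊔ (S : Subgroup G)) (S : Subgroup G) ⊔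
      ZP (K₂ ⊔ (S : Subgroup G)) (S : Subgroup G) : Subgroup G) : Set G) := by
  intro hV
  have h : BHyp (K₁ ⊔ (S : Subgroup G)) (K₂ ⊔ (S : Subgroup G)) (S : Subgroup G) :=
    Helper53.JC3.bhyp p₁ p₂ hne
  have l₁ : Loc1 (K₁ ⊔ (S : Subgroup G)) (S : Subgroup G) := BA.loc1 _ _ h.syl₁ h.h6₁ h.hchar₁ h.hZ₁
  have l₂ : Loc1 (K₂ ⊔ (S : Subgroup G)) (S : Subgroup G) := BA.loc1 _ _ h.syl₂ h.h6₂ h.hchar₂ h.hZ₂
  have hD := ci_norm l₁ l₂ hV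
  obtain ⟨ha, hb, hc, hd, he⟩ := hx0 h hD rfl p₁.nrm jc₁.2.2.1 jc₁.1
  exact ci_core l₁.TP h.hcore h.syl₂ h.h6₂ l₂ hD ha hb hc hd he hck

end Cfsg.Agent.Lib.Helper68.JC3
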