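import Cfsg.Agent.Lib.Helper53.JC2Asm
import Cfsg.Agent.Lib.Helper68.JC3CI
import Cfsg.Agent.Lib.Helper12.Card

set_option autoImplicit false

/-! Ladder JC3, rung PL4. -/

namespace Cfsg.Agent.Lib.Helper68.JC3

open Cfsg Subgroup
open Cfsg.Agent.Lib.Helper53
open Cfsg.Agent.Lib.Helper53.JC Cfsg.Agent.Lib.Helper53.JC2
open Cfsg.Agent.Lib.Helper15.ZJ (AE PE)

variable {G : Type*} [Group G] [Finite G]

theorem jj_eq {Q T : Subgroup G} (hQT : Q ≤ T) (hexp : ∀ g ∈ Q, g * g = 1) (hind : Q.relIndex T = 2)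
    (hCQ : T ⊓ centralizer (Q : Set G) ≤ Q) (hJ : ¬ JJ T ≤ Q) : JJ T = T := by
  have hPE : PE 2 Q := ⟨fun x hx y hy => (mem_centralizer_iff.1 (ci_comm hexp hx) y hy).symm,
    fun a ha => by rw [pow_two]; exact hexp a ha⟩
  obtain ⟨A, hA, hAQ⟩ : ∃ A ∈ AE 2 T, ¬ A ≤ Q := by
    by_contra hcon
    push Not at hcon
    exact hJ (JJ_le_iff.2 hcon)
  have hsup : Q ⊔ A = T := by
    rcases eq_or_eq_of_relIndex_prime Nat.prime_two le_sup_left (sup_le hQT hA.1) hind with h | h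
    · exact absurd (h ▸ le_sup_right) hAQ
    · exact h
  have hAT : ¬ T ≤ A := by
    intro h
    have h1 : T ≤ Q := fun t ht => hCQ (Subgroup.mem_inf.2 ⟨ht, mem_centralizer_iff.2 fun q hq =>
      hA.2.1.1 q (h (hQT hq)) t (h ht)⟩)
    have h2 := relIndex_eq_one.2 h1
    omega
  have hcT : 2 * Nat.card Q = Nat.card T := by
    rw [← hind]; exact Cfsg.Agent.Lib.Helper12.relIndex_mul_card' hQT
  have hcA : A.relIndex T * Nat.card A = Nat.card T := Cfsg.Agent.Lib.Helper12.relIndex_mul_card' hA.1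
  have hA1 : A.relIndex T ≠ 1 := fun h => hAT (relIndex_eq_one.1 h)
  have hA0 : A.relIndex T ≠ 0 := by
    intro h
    rw [h, zero_mul] at hcA
    exact Nat.card_pos.ne hcA
  have hle : Nat.card A ≤ Nat.card Q := by
    have h2 : 2 ≤ A.relIndex T := by omega
    have h3 : 2 * Nat.card A ≤ A.relIndex T * Nat.card A := Nat.mul_le_mul_right _ h2
    omega
  have hQAE : Q ∈ AE 2 T := ⟨hQT, hPE, fun B hB hB2 => (hA.2.2 B hB hB2).trans hle⟩
  apply le_antisymm (JJ_le T)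
  calc T = Q ⊔ A := hsup.symm
    _ ≤ JJ T := sup_le (le_JJ hQAE) (le_JJ hA)

end Cfsg.Agent.Lib.Helper68.JC3
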