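import Cfsg.Agent.Lib.Helper53.JC2Asm
import Cfsg.Agent.Lib.Helper68.JC3CI
import Cfsg.Agent.Lib.Helper12.Card

set_option autoImplicit false

/-! Ladder JC3, rung PL5. -/

namespace Cfsg.Agent.Lib.Helper68.JC3

open Cfsg Subgroup
open Cfsg.Agent.Lib.Helper53
open Cfsg.Agent.Lib.Helper53.JC Cfsg.Agent.Lib.Helper53.JC2
open Cfsg.Agent.Lib.Helper12 (relIndex_mul_card')

variable {G : Type*} [Group G] [Finite G]

omit [Finite G] in
/-- a subgroup of index 2 is normal. -/
theorem pl5_normal {Q T : Subgroup G} (hQT : Q ≤ T) (hind : Q.relIndex T = 2) :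
    ∀ s ∈ T, ∀ q ∈ Q, s * q * s⁻¹ ∈ Q := by
  intro s hs q hq
  by_cases h : s ∈ Q
  · exact mul_mem (mul_mem h hq) (inv_mem h)
  · refine ci_mul_mem hind (mul_mem hs (hQT hq)) (inv_mem hs) ?_ (fun h' => h (by simpa using inv_mem h'))
    intro h'
    exact h (by simpa using mul_mem h' (inv_mem hq))

/-- an element normalizing `Y ≤ X` with `|X : Y| ≤ 2` acts trivially on `X / Y`. -/
theorem pl5_stab {X Y : Subgroup G} {u : G} (hYX : Y ≤ X) (hidx : Y.relIndex X ≤ 2)
    (huX : u ∈ normalizer (X : Set G)) (huY : u ∈ normalizer (Y : Set G)) :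
    ⁅zpowers u, X⁆ ≤ Y := by
  rw [commutator_le]
  intro k hk x hx
  have hkX : k ∈ normalizer (X : Set G) := (zpowers_le.2 huX) hk
  have hkY : k ∈ normalizer (Y : Set G) := (zpowers_le.2 huY) hk
  rw [commutatorElement_def]
  by_cases hxY : x ∈ Y
  · exact mul_mem ((mem_normalizer_iff.1 hkY x).1 hxY) (inv_mem hxY)
  · have h0 : Y.relIndex X ≠ 0 := by
      intro h
      have := relIndex_mul_card' hYX
      rw [h, zero_mul] at this
      exact Nat.card_pos.ne this
    have h1 : Y.relIndex X ≠ 1 := fun h => hxY (relIndex_eq_one.1 h hx)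
    have h2 : Y.relIndex X = 2 := by omega
    refine ci_mul_mem h2 ((mem_normalizer_iff.1 hkX x).1 hx) (inv_mem hx) ?_
      (fun h' => hxY (by simpa using inv_mem h'))
    intro h'
    exact hxY ((mem_normalizer_iff.1 hkY x).2 h')

theorem odd_cent {Q T : Subgroup G} (hQT : Q ≤ T) (hexp : ∀ g ∈ Q, g * g = 1)
    (hcard : Nat.card ↥Q ≤ 8) (hind : Q.relIndex T = 2) (hCQ : T ⊓ centralizer (Q : Set G) ≤ Q)
    {u : G} (huT : u ∈ normalizer (T : Set G)) (huQ : u ∈ normalizer (Q : Set G))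
    (hodd : Odd (orderOf u)) : u ∈ centralizer (Q : Set G) := by
  have hcomm : ∀ a ∈ Q, ∀ b ∈ Q, a * b = b * a := fun a ha b hb =>
    (mem_centralizer_iff.1 (ci_comm hexp ha) b hb).symm
  have hinv : ∀ a ∈ Q, a⁻¹ = a := fun a ha => inv_eq_of_mul_eq_one_left (hexp a ha)
  have hnorm := pl5_normal hQT hind
  obtain ⟨t, htT, htQ⟩ : ∃ t ∈ T, t ∉ Q := by
    by_contra hcon
    push Not at hcon
    have h1 : T ≤ Q := hcon
    have h2 := relIndex_eq_one.2 h1
    omega
  have htinv : t⁻¹ ∉ Q := fun h' => htQ (by simpa using inv_mem h')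
  -- decomposition of `T`
  have hdec : ∀ s ∈ T, s ∉ Q → s * t⁻¹ ∈ Q := fun s hs hsQ =>
    ci_mul_mem hind hs (inv_mem htT) hsQ htinv
  have htt : t * t ∈ Q := ci_mul_mem hind htT htT htQ htQ
  -- the commutator map
  let φ : ↥Q →* G := MonoidHom.mk' (fun q => (q : G) * (t * q * t⁻¹)) (by
    intro a b
    have h1 : (b : G) * (t * a * t⁻¹) = (t * a * t⁻¹) * b := hcomm _ b.2 _ (hnorm t htT a a.2)
    calc ((a * b : ↥Q) : G) * (t * ((a * b : ↥Q) : G) * t⁻¹)
        = (a : G) * ((b : G) * (t * a * t⁻¹)) * (t * b * t⁻¹) := by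
          simp only [Subgroup.coe_mul]; group
      _ = (a : G) * (t * a * t⁻¹) * ((b : G) * (t * b * t⁻¹)) := by rw [h1]; group)
  have hφ : ∀ q : ↥Q, φ q = (q : G) * (t * q * t⁻¹) := fun q => rfl
  have hφQ : ∀ q : ↥Q, φ q ∈ Q := fun q => mul_mem q.2 (hnorm t htT q q.2)
  have hRQ : φ.range ≤ Q := by
    rintro _ ⟨q, rfl⟩
    exact hφQ q
  -- membership in `C(T)`
  have hCT : ∀ z ∈ Q, t * z * t⁻¹ = z → z ∈ centralizer (T : Set G) := by
    intro z hz hzt
    rw [mem_centralizer_iff]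
    intro s hs
    by_cases hsQ : s ∈ Q
    · exact hcomm s hsQ z hz
    · have h1 := hdec s hs hsQ
      have h2 := hcomm _ h1 z hz
      have h3 : t * z = z * t := by
        calc t * z = t * z * t⁻¹ * t := by group
          _ = z * t := by rw [hzt]
      calc s * z = (s * t⁻¹) * (t * z) := by group
        _ = (s * t⁻¹ * z) * t := by rw [h3]; group
        _ = z * s := by rw [h2]; group
  have hker : (Q ⊓ centralizer (T : Set G)).subgroupOf Q = φ.ker := by
    ext q
    rw [mem_subgroupOf, MonoidHom.mem_ker, hφ, Subgroup.mem_inf]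
    constructor
    · rintro ⟨-, h2⟩
      have h3 := mem_centralizer_iff.1 h2 t htT
      calc (q : G) * (t * q * t⁻¹) = (q : G) * (q * t * t⁻¹) := by rw [h3]
        _ = (q : G) * q := by group
        _ = 1 := hexp q q.2
    · intro h
      refine ⟨q.2, hCT q q.2 ?_⟩
      have h1 : t * q * t⁻¹ = (q : G)⁻¹ := eq_inv_of_mul_eq_one_right h
      rw [h1, hinv q q.2]
  have hRZ : φ.range ≤ Q ⊓ centralizer (T : Set G) := by
    rintro _ ⟨q, rfl⟩
    refine Subgroup.mem_inf.2 ⟨hφQ q, hCT _ (hφQ q) ?_⟩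
    rw [hφ]
    have h1 : (t * t) * q * (t * t)⁻¹ = (q : G) := by
      rw [hcomm _ htt q q.2]; group
    calc t * ((q : G) * (t * q * t⁻¹)) * t⁻¹ = (t * q * t⁻¹) * ((t * t) * q * (t * t)⁻¹) := by group
      _ = (t * q * t⁻¹) * q := by rw [h1]
      _ = (q : G) * (t * q * t⁻¹) := hcomm _ (hnorm t htT q q.2) _ q.2
  have hR1 : φ.range ≠ ⊥ := by
    intro h
    apply htQ
    apply hCQ
    refine Subgroup.mem_inf.2 ⟨htT, ?_⟩
    rw [mem_centralizer_iff]
    intro q hq
    have h1 : φ ⟨q, hq⟩ = 1 := by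
      have : φ ⟨q, hq⟩ ∈ φ.range := ⟨_, rfl⟩
      rw [h] at this
      simpa using this
    rw [hφ] at h1
    have h2 : t * q * t⁻¹ = q⁻¹ := eq_inv_of_mul_eq_one_right h1
    rw [hinv q hq] at h2
    calc q * t = t * q * t⁻¹ * t := by rw [h2]
      _ = t * q := by group
  -- normalizers
  have huZ : u ∈ normalizer ((Q ⊓ centralizer (T : Set G) : Subgroup G) : Set G) := by
    have h1 : u ∈ normalizer ((centralizer (T : Set G) : Subgroup G) : Set G) := by
      rw [← ci_self] at huT ⊢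
      rw [← ci_centralizer, huT]
    exact Subgroup.inf_normalizer_le_normalizer_inf (Subgroup.mem_inf.2 ⟨huQ, h1⟩)
  have huR : u ∈ normalizer ((φ.range : Subgroup G) : Set G) := by
    rw [← cj_eq_self_iff]
    apply cj_eq_of_le
    rintro _ ⟨_, ⟨q, rfl⟩, rfl⟩
    have hq' : u * q * u⁻¹ ∈ Q := (mem_normalizer_iff.1 huQ q).1 q.2
    refine ⟨⟨u * q * u⁻¹, hq'⟩, ?_⟩
    rw [hφ, hφ]
    simp only [MulEquiv.coe_toMonoidHom, MulAut.conj_apply]
    have hs : u * t * u⁻¹ ∈ T := (mem_normalizer_iff.1 huT t).1 htT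
    have hsQ : u * t * u⁻¹ ∉ Q := fun h' => htQ ((mem_normalizer_iff.1 huQ t).2 h')
    have h0 := hdec _ hs hsQ
    have h1 := hnorm t htT _ hq'
    have h2 := hcomm _ h0 _ h1
    calc u * q * u⁻¹ * (t * (u * q * u⁻¹) * t⁻¹)
        = u * q * u⁻¹ * ((t * (u * q * u⁻¹) * t⁻¹) * (u * t * u⁻¹ * t⁻¹) * (u * t * u⁻¹ * t⁻¹)⁻¹) := by
          group
      _ = u * q * u⁻¹ * ((u * t * u⁻¹ * t⁻¹) * (t * (u * q * u⁻¹) * t⁻¹) * (u * t * u⁻¹ * t⁻¹)⁻¹) := by
          rw [h2]
      _ = u * ((q : G) * (t * q * t⁻¹)) * u⁻¹ := by group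
  -- cardinalities
  have hc1 : (Q ⊓ centralizer (T : Set G)).relIndex Q = Nat.card φ.range := by
    rw [relIndex, hker, Subgroup.index_ker]
  have hc2 := relIndex_mul_card' (inf_le_left : Q ⊓ centralizer (T : Set G) ≤ Q)
  have hc3 := relIndex_mul_card' hRZ
  have hc4 : 2 ≤ Nat.card φ.range := by
    rcases Nat.lt_or_ge (Nat.card φ.range) 2 with h | h
    · exfalso
      have h1 : Nat.card φ.range = 1 := by
        have := Nat.card_pos (α := φ.range)
        omega
      exact hR1 (Subgroup.card_eq_one.1 h1)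
    · exact h
  have hc5 : Nat.card φ.range ≤ Nat.card ↥(Q ⊓ centralizer (T : Set G)) :=
    Subgroup.card_le_of_le hRZ
  rw [hc1] at hc2
  have hc6 : Nat.card φ.range = 2 := by
    by_contra hne
    have h3 : 3 ≤ Nat.card φ.range := by omega
    have h4 : 3 * 3 ≤ Nat.card φ.range * Nat.card ↥(Q ⊓ centralizer (T : Set G)) :=
      Nat.mul_le_mul h3 (h3.trans hc5)
    omega
  have hi1 : (⊥ : Subgroup G).relIndex φ.range ≤ 2 := by
    rw [Subgroup.relIndex_bot_left, hc6]
  have hi2 : (φ.range).relIndex (Q ⊓ centralizer (T : Set G)) ≤ 2 := by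
    rw [hc6] at hc2 hc3
    omega
  have hi3 : (Q ⊓ centralizer (T : Set G)).relIndex Q ≤ 2 := by
    rw [hc1, hc6]
  -- stability
  have hgen : closure {g : G | g ∈ zpowers u ∧ Odd (orderOf g)} = zpowers u := by
    apply le_antisymm
    · rw [closure_le]
      exact fun g hg => hg.1
    · rw [zpowers_le]
      exact subset_closure ⟨mem_zpowers u, hodd⟩
  have hK1 : zpowers u ≤ centralizer ((φ.range : Subgroup G) : Set G) := by
    have hb : u ∈ normalizer (((⊥ : Subgroup G) : Subgroup G) : Set G) := by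
      rw [mem_normalizer_iff]
      intro x
      simp [Subgroup.mem_bot, conj_eq_one_iff]
    have h1 := pl5_stab bot_le hi1 huR hb
    rw [le_bot_iff, commutator_eq_bot_iff_le_centralizer] at h1
    exact h1
  have hK2 : zpowers u ≤ centralizer ((Q ⊓ centralizer (T : Set G) : Subgroup G) : Set G) :=
    le_centralizer_of_stab hgen (pl5_stab hRZ hi2 huZ huR) hK1 (fun y hy => hexp y (hRQ hy))
  have hK3 : zpowers u ≤ centralizer (Q : Set G) :=
    le_centralizer_of_stab hgen (pl5_stab inf_le_left hi3 huQ huZ) hK2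
      (fun y hy => hexp y (Subgroup.mem_inf.1 hy).1)
  exact hK3 (mem_zpowers u)

end Cfsg.Agent.Lib.Helper68.JC3
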