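import Cfsg.Agent.Lib.Helper53.JC2Asm
import Cfsg.Agent.Lib.Helper53.JCAll
import Cfsg.Agent.Lib.Helper53.BALoc1
import Cfsg.Agent.Lib.Helper69.JCSt56
import Cfsg.Agent.Lib.Helper56.JC44
import Cfsg.Agent.Lib.Helper37.QTFaithful
import Cfsg.Agent.Lib.Helper68.JC3PL4
import Cfsg.Agent.Lib.Helper68.JC3PL5

set_option autoImplicit false

/-! Ladder JC3, rung PL. -/

namespace Cfsg.Agent.Lib.Helper68.JC3

open Cfsg Subgroup
open Cfsg.Agent.Lib.Helper53
open Cfsg.Agent.Lib.Helper53.JC Cfsg.Agent.Lib.Helper53.JC2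
open Cfsg.Agent.Lib.Helper15.ZJ (AE PE)

variable {G : Type*} [Group G] [Finite G]

theorem p_eq_l (zn : ZN G) {T K L : Subgroup G} (jc : IsJComponent T K) (p : PPr T K L)
    (hexp : ∀ g ∈ pCoreOf 2 (K ⊔ T), g * g = 1) (hcard : Nat.card ↥(pCoreOf 2 (K ⊔ T)) ≤ 8) :
    K ⊔ T = L := by
  have : Fact (Nat.Prime 2) := ⟨Nat.prime_two⟩
  obtain ⟨hQT, hind, -⟩ := BA.indices p.syl p.h6
  have hT2 : IsPGroup 2 T := p.syl.2.1
  have hsylL : IsSyl 2 T L := isSylowTwoIn_iff.1 p.sylL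
  have hchL : centralizer (pCoreOf 2 L : Set G) ≤ pCoreOf 2 L := Helper56.JC.twoLocal_char zn.hL p.hL.1
  have hKL : K ≤ L := le_sup_left.trans p.le
  -- (1)
  have hOL1 : pCoreOf 2 L ≤ pCoreOf 2 (K ⊔ T) :=
    le_pCoreOf ((pCoreOf_le_isSyl hsylL).trans p.syl.1) (p.le.trans (le_normalizer_pCoreOf 2 L))
      (pCoreOf_isPGroup 2 L)
  have hOL : pCoreOf 2 L = pCoreOf 2 (K ⊔ T) := by
    apply le_antisymm hOL1
    intro q hq
    exact hchL (centralizer_le (SetLike.coe_subset_coe.2 hOL1) (ci_comm hexp hq))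
  -- (2)
  have hnJ : ¬ JJ T ≤ pCoreOf 2 L := Helper56.JC.jc_not_J_le_pCoreOf jc hKL
  have hjo : L ∈ jOvergroups T := ⟨p.sylL, hnJ, hchL⟩
  have hCQ : T ⊓ centralizer (pCoreOf 2 (K ⊔ T) : Set G) ≤ pCoreOf 2 (K ⊔ T) := inf_le_right.trans p.cen
  have hJT : JJ T = T := jj_eq hQT hexp hind hCQ (by rw [hOL] at hnJ; exact hnJ)
  -- (c)
  have hNT : L ⊓ normalizer (T : Set G) ≤ T := by
    intro g hg
    obtain ⟨hgL, hgT⟩ := Subgroup.mem_inf.1 hg
    obtain ⟨n, hn⟩ := exists_pow_coprime (p := 2) g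
    have hodd : Odd (orderOf (g ^ 2 ^ n)) := Nat.Coprime.odd_of_right hn
    have huQ : g ^ 2 ^ n ∈ normalizer (pCoreOf 2 (K ⊔ T) : Set G) := by
      rw [← hOL]; exact le_normalizer_pCoreOf 2 L (pow_mem hgL _)
    have hu := odd_cent hQT hexp hcard hind hCQ (pow_mem hgT _) huQ hodd
    have hu2 : g ^ 2 ^ n ∈ pCoreOf 2 (K ⊔ T) := p.cen hu
    have hu3 : (g ^ 2 ^ n) ^ 2 = 1 := by rw [pow_two]; exact hexp _ hu2
    have hu4 : orderOf (g ^ 2 ^ n) ∣ 2 := orderOf_dvd_of_pow_eq_one hu3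
    have hu5 : orderOf (g ^ 2 ^ n) = 1 := by
      rcases (Nat.dvd_prime Nat.prime_two).1 hu4 with h | h
      · exact h
      · rw [h] at hodd; exact absurd hodd (by decide)
    have hu6 : g ^ 2 ^ n = 1 := orderOf_eq_one_iff.1 hu5
    have hp : IsPGroup 2 (zpowers g) := by
      rw [IsPGroup.iff_card]
      rw [Nat.card_zpowers]
      exact (Nat.dvd_prime_pow Nat.prime_two).1 (orderOf_dvd_of_pow_eq_one hu6) |>.imp fun k hk => hk.2
    exact hsylL.le_of_le_normalizer (zpowers_le.2 hgL) hp (zpowers_le.2 hgT) (mem_zpowers g)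
  apply le_antisymm p.le
  refine Helper69.JC.st5 (zn_core1 zn) (zn_ffa zn) T L (K ⊔ T) hT2 hjo ?_ ?_ ?_
  · intro K' jc' hK'L
    by_cases hKK : K' = K
    · rw [hKK]; exact le_sup_left
    · exfalso
      have h1 : wOf K ⊓ wOf K' = ⊥ := zn_st3 zn T L K K' hT2 hjo jc hKL jc' hK'L (Ne.symm hKK)
      have h2 : wOf K ≤ pCoreOf 2 (K ⊔ T) := by
        rw [← hOL]
        exact (wOf_le_pCoreOf K).trans
          (Helper37.pCoreOf_le_of_rel_subnormal hKL (zn_st1 zn T L K hT2 hjo jc hKL))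
      have h3 : wOf K' ≤ pCoreOf 2 (K ⊔ T) := by
        rw [← hOL]
        exact (wOf_le_pCoreOf K').trans
          (Helper37.pCoreOf_le_of_rel_subnormal hK'L (zn_st1 zn T L K' hT2 hjo jc' hK'L))
      have h4 : wOf K ≤ normalizer (wOf K' : Set G) := by
        intro a ha
        have : a ∈ centralizer (wOf K' : Set G) :=
          centralizer_le (SetLike.coe_subset_coe.2 h3) (ci_comm hexp (h2 ha))
        exact centralizer_le_normalizer _ this
      have h5 := Cfsg.Agent.Lib.Helper12.card_sup_mul_card_inf' (wOf K) (wOf K') h4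
      rw [h1, jc.2.2.2.2.1, jc'.2.2.2.2.1] at h5
      have h6 : Nat.card ↥(wOf K ⊔ wOf K') ≤ Nat.card ↥(pCoreOf 2 (K ⊔ T)) :=
        Subgroup.card_le_of_le (sup_le h2 h3)
      simp at h5
      omega
  · rw [hJT]
    exact hNT.trans le_sup_right
  · intro g hg
    have h1 := (zn_core1 zn T L hT2 hjo).2.2.1 hg
    exact le_sup_right (a := K) (hNT (Subgroup.mem_inf.2 ⟨(Subgroup.mem_inf.1 hg).1, h1⟩))

end Cfsg.Agent.Lib.Helper68.JC3
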