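import Mathlib
import Cfsg.Agent.Lib.Helper68.MT1
import Cfsg.Agent.Lib.Helper14.Class2

set_option autoImplicit false

/-! Groups that are the product of two normal cyclic subgroups. -/

namespace Cfsg.Agent.Lib.Helper68.MT

open Subgroup

variable {U : Type*} [Group U]

/-- Two normal cyclic subgroups generating the group. -/
structure Pair (a a' : U) : Prop where
  n0 : (zpowers a).Normal
  n1 : (zpowers a').Normal
  top : zpowers a ⊔ zpowers a' = ⊤

namespace Pair

variable {a a' : U}

theorem central (hp : Pair a a') {d : U} (hd : d ∈ zpowers a ⊓ zpowers a') (u : U) :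
    Commute d u := by
  have h : zpowers a ⊔ zpowers a' ≤ centralizer {d} := by
    refine sup_le (zpowers_le.2 ?_) (zpowers_le.2 ?_)
    · rw [mem_centralizer_singleton_iff]
      obtain ⟨k, rfl⟩ := hd.1
      exact ((Commute.refl a).zpow_right k).eq
    · rw [mem_centralizer_singleton_iff]
      obtain ⟨k, rfl⟩ := hd.2
      exact ((Commute.refl a').zpow_right k).eq
  rw [hp.top] at h
  have := h (mem_top u)
  rw [mem_centralizer_singleton_iff] at this
  exact this.symm

theorem comm_mem (hp : Pair a a') (u v : U) : v * u * v⁻¹ * u⁻¹ ∈ zpowers a ⊓ zpowers a' := by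
  have := hp.n0
  have := hp.n1
  have h1 : commutator U ≤ zpowers a :=
    Subgroup.Normal.commutator_le_of_self_sup_commutative_eq_top hp.top inferInstance
  have h2 : commutator U ≤ zpowers a' :=
    Subgroup.Normal.commutator_le_of_self_sup_commutative_eq_top
      (by rw [sup_comm]; exact hp.top) inferInstance
  have h3 : v * u * v⁻¹ * u⁻¹ ∈ commutator U := by
    rw [commutator_def, ← commutatorElement_def]
    exact Subgroup.commutator_mem_commutator (mem_top v) (mem_top u)
  exact ⟨h1 h3, h2 h3⟩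

theorem mul_pow (hp : Pair a a') (u v : U) (n : ℕ) :
    (u * v) ^ n = u ^ n * v ^ n * (v * u * v⁻¹ * u⁻¹) ^ (n.choose 2) :=
  Cfsg.Agent.Lib.Helper14.mul_pow_of_commutator_central (by group)
    (hp.central (hp.comm_mem u v) u) (hp.central (hp.comm_mem u v) v) n

theorem pow_mem (hp : Pair a a') {q : ℕ} (h1 : a ^ q ∈ zpowers a ⊓ zpowers a')
    (h2 : a' ^ q ∈ zpowers a ⊓ zpowers a') (u : U) : u ^ q ∈ zpowers a ⊓ zpowers a' := by
  let E : Subgroup U :=
    { carrier := {u | u ^ q ∈ zpowers a ⊓ zpowers a'}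
      one_mem' := by
        show (1 : U) ^ q ∈ zpowers a ⊓ zpowers a'
        rw [one_pow]; exact one_mem _
      mul_mem' := by
        intro u v hu hv
        show (u * v) ^ q ∈ zpowers a ⊓ zpowers a'
        rw [hp.mul_pow]
        exact mul_mem (mul_mem hu hv) (Subgroup.pow_mem _ (hp.comm_mem u v) _)
      inv_mem' := by
        intro u hu
        show (u⁻¹) ^ q ∈ zpowers a ⊓ zpowers a'
        rw [inv_pow]
        exact inv_mem hu }
  have h : zpowers a ⊔ zpowers a' ≤ E := sup_le (zpowers_le.2 h1) (zpowers_le.2 h2)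
  rw [hp.top] at h
  exact h (mem_top u)

end Pair

/-- A normal subgroup of a cyclic subgroup is generated by the obvious power. -/
theorem eq_zpowers_of_le (D : Subgroup U) [D.Normal] (a : U) (hD : D ≤ zpowers a) :
    D = zpowers (a ^ orderOf (a : U ⧸ D)) := by
  apply le_antisymm
  · intro d hd
    obtain ⟨k, rfl⟩ := hD hd
    have h1 : (a : U ⧸ D) ^ k = 1 := by
      rw [← QuotientGroup.mk_zpow]
      exact (QuotientGroup.eq_one_iff _).2 hd
    obtain ⟨t, rfl⟩ := orderOf_dvd_iff_zpow_eq_one.2 h1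
    show a ^ ((orderOf (a : U ⧸ D) : ℤ) * t) ∈ _
    rw [zpow_mul, zpow_natCast]
    exact zpow_mem (mem_zpowers _) t
  · rw [zpowers_le, ← QuotientGroup.eq_one_iff, QuotientGroup.mk_pow, pow_orderOf_eq_one]

theorem card_mul_orderOf [Finite U] (D : Subgroup U) [D.Normal] (a : U) (hD : D ≤ zpowers a) :
    orderOf (a : U ⧸ D) * Nat.card D = orderOf a := by
  have h1 : Nat.card D = orderOf (a ^ orderOf (a : U ⧸ D)) := by
    conv_lhs => rw [eq_zpowers_of_le D a hD]
    rw [Nat.card_zpowers]
  have h2 : orderOf (a : U ⧸ D) ∣ orderOf a := orderOf_map_dvd (QuotientGroup.mk' D) a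
  rw [h1, orderOf_pow_of_dvd (orderOf_pos _).ne' h2, Nat.mul_div_cancel' h2]

end Cfsg.Agent.Lib.Helper68.MT
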