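import Mathlib
import Cfsg.Agent.Lib.Helper68.MT2

set_option autoImplicit false

/-! The dichotomy for a `2`-group that is the product of a normal cyclic subgroup and its image under an
automorphism of odd prime order. -/

namespace Cfsg.Agent.Lib.Helper68.MT

open Subgroup Cfsg.Agent.Lib.Helper77

variable {U : Type*} [Group U]

theorem eq_one_of_zpow_odd (hU : IsPGroup 2 U) {d : U} {s : ℤ} (hs : Odd s) (h : d ^ s = 1) :
    d = 1 := by
  obtain ⟨e, he⟩ := (IsPGroup.iff_orderOf.1 hU) d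
  have h1 : (orderOf d : ℤ) ∣ s := orderOf_dvd_iff_zpow_eq_one.2 h
  rcases Nat.eq_zero_or_pos e with rfl | hpos
  · rw [pow_zero] at he
    exact orderOf_eq_one_iff.1 he
  · exfalso
    have h2 : (2 : ℤ) ∣ s := by
      refine dvd_trans ?_ h1
      rw [he]
      push_cast
      exact dvd_pow_self 2 hpos.ne'
    rw [← Int.not_even_iff_odd] at hs
    exact hs (even_iff_two_dvd.2 h2)

theorem sq_eq_one_of_zpow (hU : IsPGroup 2 U) {d : U} {s : ℤ} (hs : Odd s)
    (h : (d ^ s) ^ 2 = 1) : d ^ 2 = 1 := by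
  apply eq_one_of_zpow_odd hU hs
  rw [← zpow_natCast, ← zpow_mul, mul_comm, zpow_mul, zpow_natCast]
  exact h

theorem zpow_two_mul' (x : U) (t : ℤ) : x ^ (2 * t) = (x ^ 2) ^ t := by
  rw [zpow_mul]
  congr 1
  exact zpow_ofNat x 2

theorem mul_zpow_two_mul_add_one (x : U) (t : ℤ) : x * x ^ (2 * t + 1) = (x ^ 2) ^ (t + 1) := by
  rw [← zpow_two_mul', ← zpow_one_add]
  congr 1
  ring

theorem even_choose_two_of_four_dvd {q : ℕ} (h : 4 ∣ q) : Even (q.choose 2) := by
  obtain ⟨t, rfl⟩ := h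
  rw [Nat.choose_two_right]
  have : 4 * t * (4 * t - 1) / 2 = 2 * (t * (4 * t - 1)) := by
    have h2 : 4 * t * (4 * t - 1) = 2 * (2 * (t * (4 * t - 1))) := by ring
    rw [h2, Nat.mul_div_cancel_left _ (by norm_num)]
  rw [this]
  exact even_two_mul _

theorem dichotomy [Finite U] (hU : IsPGroup 2 U) (h4 : (frattini U).index ≤ 4) (δ : MulAut U) {r : ℕ}
    [Fact r.Prime] (hr2 : r ≠ 2) (hδr : δ ^ r = 1) (hδ : δ ≠ 1) (a : U)
    (hn : (zpowers a).Normal) (haΦ : a ∉ frattini U) :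
    Pair a (δ a) ∧ (zpowers a ⊓ zpowers (δ a) = ⊥ ∨
      (a ^ 4 = 1 ∧ Nat.card U ≤ 8 ∧ ∃ u v : U, u * v ≠ v * u)) := by
  have hδΦ : ∀ g, g ∉ frattini U → δ g ∉ frattini U := by
    intro g hg h
    apply hg
    have := aut_mem_frattini δ⁻¹ h
    rwa [MulAut.inv_apply_self] at this
  have ha'Φ : δ a ∉ frattini U := hδΦ a haΦ
  have haa' : a⁻¹ * δ a ∉ frattini U := no_fix hU h4 δ hr2 hδr hδ haΦ
  have hn1 : (zpowers (δ a)).Normal := by
    have h : zpowers (δ a) = (zpowers a).map δ.toMonoidHom := by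
      rw [MonoidHom.map_zpowers]; rfl
    rw [h]
    exact hn.map _ δ.surjective
  have hp : Pair a (δ a) := ⟨hn, hn1, eq_top_of_indep h4
    (le_sup_left (a := zpowers a) (mem_zpowers a)) (le_sup_right (a := zpowers a) (mem_zpowers (δ a)))
    haΦ ha'Φ haa'⟩
  refine ⟨hp, ?_⟩
  generalize ha' : δ a = a' at *
  have hDn : (zpowers a ⊓ zpowers a').Normal := inferInstance
  generalize hDdef : zpowers a ⊓ zpowers a' = D at *
  have hDa : D ≤ zpowers a := hDdef ▸ inf_le_left
  have hDa' : D ≤ zpowers a' := hDdef ▸ inf_le_right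
  have hord : orderOf a' = orderOf a := by rw [← ha']; exact MulEquiv.orderOf_eq δ a
  have hq' : orderOf (a' : U ⧸ D) = orderOf (a : U ⧸ D) := by
    have e1 := card_mul_orderOf D a hDa
    have e2 := card_mul_orderOf D a' hDa'
    rw [hord, ← e1] at e2
    exact Nat.eq_of_mul_eq_mul_right Nat.card_pos e2
  have hDd := eq_zpowers_of_le D a hDa
  obtain ⟨k, hk⟩ := (IsPGroup.iff_orderOf.1 (hU.to_quotient D)) (a : U ⧸ D)
  generalize hq : orderOf (a : U ⧸ D) = q at *
  have h1 : a ^ q ∈ D := by rw [hDd]; exact mem_zpowers _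
  have h2 : a' ^ q ∈ D := by
    rw [← QuotientGroup.eq_one_iff, QuotientGroup.mk_pow, ← hq', pow_orderOf_eq_one]
  have hpow : ∀ u, u ^ q ∈ D := by
    intro u
    rw [← hDdef] at h1 h2 ⊢
    exact hp.pow_mem h1 h2 u
  have hcentral : ∀ d ∈ D, ∀ u, Commute d u := by
    intro d hd u
    rw [← hDdef] at hd
    exact hp.central hd u
  have hcomm : ∀ u v, v * u * v⁻¹ * u⁻¹ ∈ D := by
    intro u v
    rw [← hDdef]
    exact hp.comm_mem u v
  have hsq : ∀ e ∈ D, e ^ 2 ∈ zpowers ((a ^ q) ^ 2) := by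
    intro e he
    rw [hDd] at he
    obtain ⟨j, rfl⟩ := he
    refine ⟨j, ?_⟩
    show ((a ^ q) ^ 2) ^ j = ((a ^ q) ^ j) ^ 2
    rw [← zpow_natCast, ← zpow_mul, mul_comm, zpow_mul, zpow_natCast]
  have hδD2 : ∀ y ∈ zpowers ((a ^ q) ^ 2), δ y ∈ zpowers ((a ^ q) ^ 2) := by
    rintro _ ⟨j, rfl⟩
    show δ (((a ^ q) ^ 2) ^ j) ∈ _
    rw [map_zpow, map_pow, map_pow, ha']
    exact zpow_mem (hsq _ h2) j
  by_cases H : ∀ u v : U, (v * u * v⁻¹ * u⁻¹) ^ (q.choose 2) ∈ zpowers ((a ^ q) ^ 2)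
  · left
    let K : Subgroup U :=
      { carrier := {u | u ^ q ∈ zpowers ((a ^ q) ^ 2)}
        one_mem' := by
          show (1 : U) ^ q ∈ zpowers ((a ^ q) ^ 2)
          rw [one_pow]; exact one_mem _
        mul_mem' := by
          intro u v hu hv
          show (u * v) ^ q ∈ zpowers ((a ^ q) ^ 2)
          rw [hp.mul_pow]
          exact mul_mem (mul_mem hu hv) (H u v)
        inv_mem' := by
          intro u hu
          show (u⁻¹) ^ q ∈ zpowers ((a ^ q) ^ 2)
          rw [inv_pow]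
          exact inv_mem hu }
    have hK : ∀ u, u ∈ K ↔ u ^ q ∈ zpowers ((a ^ q) ^ 2) := fun u => Iff.rfl
    have hδK : ∀ u ∈ K, δ u ∈ K := by
      intro u hu
      rw [hK, ← map_pow]
      exact hδD2 _ hu
    have hex : ∃ g ∈ K, g ∉ frattini U := by
      have h3 := h2
      rw [hDd] at h3
      obtain ⟨s, hs⟩ := h3
      have hs' : (a ^ q) ^ s = a' ^ q := hs
      rcases Int.even_or_odd' s with ⟨t, rfl | rfl⟩
      · refine ⟨a', ?_, ha'Φ⟩
        rw [hK, ← hs', zpow_two_mul']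
        exact ⟨t, rfl⟩
      · refine ⟨a * a', ?_, ?_⟩
        · rw [hK, hp.mul_pow, ← hs']
          refine mul_mem ?_ (H a a')
          rw [mul_zpow_two_mul_add_one]
          exact ⟨t + 1, rfl⟩
        · intro h
          apply haa'
          have e : a⁻¹ * a' = (a ^ 2)⁻¹ * (a * a') := by group
          rw [e]
          exact mul_mem (inv_mem (Cfsg.Agent.Lib.Helper3.pow_p_mem_frattini hU a)) h
    obtain ⟨g, hgK, hgΦ⟩ := hex
    have hKtop : K = ⊤ := eq_top_of_indep h4 hgK (hδK g hgK) hgΦ (hδΦ g hgΦ)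
      (no_fix hU h4 δ hr2 hδr hδ hgΦ)
    have haK : a ∈ K := hKtop ▸ mem_top a
    rw [hK] at haK
    obtain ⟨t, ht⟩ := haK
    have ht' : ((a ^ q) ^ 2) ^ t = a ^ q := ht
    have hd1 : a ^ q = 1 := by
      apply eq_one_of_zpow_odd hU (s := 2 * t - 1) ⟨t - 1, by ring⟩
      rw [zpow_sub, zpow_two_mul', zpow_one, ht', mul_inv_cancel]
    rw [hDd, hd1, zpowers_one_eq_bot]
  · right
    push Not at H
    obtain ⟨u, v, hw⟩ := H
    have hwD : v * u * v⁻¹ * u⁻¹ ∈ D := hcomm u v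
    have hodd : ¬ Even (q.choose 2) := by
      rintro ⟨c, hc⟩
      apply hw
      rw [hc, ← two_mul, mul_comm, pow_mul]
      exact hsq _ (Subgroup.pow_mem _ hwD c)
    have hq2 : q = 2 := by
      rcases k with _ | _ | k
      · exfalso; apply hodd; rw [hk]; decide
      · rw [hk]; norm_num
      · exfalso; apply hodd
        apply even_choose_two_of_four_dvd
        rw [hk]
        exact ⟨2 ^ k, by ring⟩
    subst hq2
    have hc1 : Nat.choose 2 2 = 1 := by decide
    rw [hc1, pow_one] at hw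
    have hw1 : v * u * v⁻¹ * u⁻¹ ≠ 1 := by
      intro h
      rw [h] at hw
      exact hw (one_mem _)
    have hw2 : (v * u * v⁻¹ * u⁻¹) ^ 2 = 1 := by
      have e1 := Cfsg.Agent.Lib.Helper14.pow_mul_of_commutator_central
        (x := u) (y := v) (z := v * u * v⁻¹ * u⁻¹) (by group) (hcentral _ hwD v) 2
      have e2 : v ^ 2 * u = u * v ^ 2 := (hcentral _ (hpow v) u).eq
      rw [e2, mul_assoc] at e1
      exact (mul_eq_right.1 e1.symm)
    have hd2 : (a ^ 2) ^ 2 = 1 := by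
      have h3 := hwD
      rw [hDd] at h3
      obtain ⟨s, hs⟩ := h3
      have hs' : (a ^ 2) ^ s = v * u * v⁻¹ * u⁻¹ := hs
      rcases Int.even_or_odd' s with ⟨t, rfl | rfl⟩
      · exfalso
        apply hw
        rw [← hs', zpow_two_mul']
        exact ⟨t, rfl⟩
      · apply sq_eq_one_of_zpow hU (s := 2 * t + 1) ⟨t, rfl⟩
        rw [hs', hw2]
    have ha4 : a ^ 4 = 1 := by
      rw [← hd2, ← pow_mul]
    refine ⟨ha4, ?_, v, u, ?_⟩
    · have e := Cfsg.Agent.Lib.Helper14.card_mul_card_eq_of_le_normalizer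
        (H := zpowers a) (K := zpowers a') (by rw [Subgroup.normalizer_eq_top]; exact le_top)
      rw [hp.top, hDdef, Nat.card_zpowers, Nat.card_zpowers, hord, Subgroup.card_top] at e
      have hle : orderOf a ≤ 4 := orderOf_le_of_pow_eq_one (by norm_num) ha4
      have hD2 : 2 ≤ Nat.card D := by
        have h0 : 0 < Nat.card D := Nat.card_pos
        have h1' : Nat.card D ≠ 1 := by
          intro h
          rw [Subgroup.card_eq_one] at h
          rw [h, Subgroup.mem_bot] at hwD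
          exact hw1 hwD
        omega
      nlinarith
    · intro h
      apply hw1
      rw [h]
      group

end Cfsg.Agent.Lib.Helper68.MT
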