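import Mathlib
import Cfsg.Agent.Lib.Helper68.MT3
import Cfsg.Agent.S4419

set_option autoImplicit false

/-! Metacyclic `2`-groups with an automorphism of odd prime order. -/

namespace Cfsg.Agent.Lib.Helper68.MT

open Subgroup Cfsg.Agent.Lib.Helper77

variable {U : Type*} [Group U] [Finite U]

theorem index_frattini_le_of_metacyclic (hU : IsPGroup 2 U) (hm : Cfsg.IsMetacyclic U) :
    (frattini U).index ≤ 4 := by
  have : Fact (Nat.Prime 2) := ⟨Nat.prime_two⟩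
  obtain ⟨x, y, hxy⟩ := Cfsg.Agent.S4419.two_gen_of_metacyclic hm ⊤
  have := card_frattini_quotient_le_of_two_gen hU x y hxy.symm
  rw [Subgroup.index_eq_card]
  omega

/-- A cyclic `2`-group has no automorphism of odd prime order. -/
theorem not_cyclic_of_aut (hU : IsPGroup 2 U) (h4 : (frattini U).index ≤ 4) (δ : MulAut U) {r : ℕ}
    [Fact r.Prime] (hr2 : r ≠ 2) (hδr : δ ^ r = 1) (hδ : δ ≠ 1) (b : U) : zpowers b ≠ ⊤ := by
  have : Fact (Nat.Prime 2) := ⟨Nat.prime_two⟩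
  intro htop
  have hbΦ : b ∉ frattini U := by
    intro hb
    have h1 : frattini U = ⊤ := by
      rw [eq_top_iff, ← htop, zpowers_le]; exact hb
    have h2 : (⊥ : Subgroup U) = ⊤ := frattini_nongenerating (by rw [h1, bot_sup_eq])
    apply hδ
    ext u
    have hu : ∀ w : U, w = 1 := fun w => by
      have : w ∈ (⊥ : Subgroup U) := h2 ▸ mem_top w
      simpa using this
    rw [hu (δ u), hu ((1 : MulAut U) u)]
  have h1 := no_fix hU h4 δ hr2 hδr hδ hbΦ
  have h2 : δ b ∈ zpowers b := htop ▸ mem_top _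
  obtain ⟨k, hk⟩ := h2
  have hk' : b ^ k = δ b := hk
  rcases Int.even_or_odd' k with ⟨t, rfl | rfl⟩
  · have h3 : δ b ∈ frattini U := by
      rw [← hk', zpow_two_mul']
      exact zpow_mem (Cfsg.Agent.Lib.Helper3.pow_p_mem_frattini hU b) t
    have h4' := aut_mem_frattini δ⁻¹ h3
    rw [MulAut.inv_apply_self] at h4'
    exact hbΦ h4'
  · apply h1
    rw [← hk', zpow_add, zpow_one, zpow_two_mul']
    have e : b⁻¹ * ((b ^ 2) ^ t * b) = (b ^ 2) ^ t := by
      have hc : Commute ((b ^ 2) ^ t) b := (((Commute.refl b).pow_left 2).zpow_left t)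
      rw [hc.eq]; group
    rw [e]
    exact zpow_mem (Cfsg.Agent.Lib.Helper3.pow_p_mem_frattini hU b) t

theorem meta_dichotomy (hU : IsPGroup 2 U) (hm : Cfsg.IsMetacyclic U) (δ : MulAut U) {r : ℕ}
    [Fact r.Prime] (hr2 : r ≠ 2) (hδr : δ ^ r = 1) (hδ : δ ≠ 1) :
    ∃ a : U, Pair a (δ a) ∧ (zpowers a ⊓ zpowers (δ a) = ⊥ ∨
      (a ^ 4 = 1 ∧ Nat.card U ≤ 8 ∧ ∃ u v : U, u * v ≠ v * u)) := by
  have h4 := index_frattini_le_of_metacyclic hU hm
  obtain ⟨N, hN, hNc, hQc⟩ := hm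
  obtain ⟨a, ha⟩ := (Subgroup.isCyclic_iff_exists_zpowers_eq_top N).1 hNc
  obtain ⟨b', hb'⟩ := hQc.exists_generator
  obtain ⟨b, rfl⟩ := QuotientGroup.mk_surjective b'
  refine ⟨a, dichotomy hU h4 δ hr2 hδr hδ a (ha ▸ hN) ?_⟩
  intro haΦ
  apply not_cyclic_of_aut hU h4 δ hr2 hδr hδ b
  apply frattini_nongenerating
  rw [eq_top_iff]
  intro u _
  obtain ⟨k, hk⟩ := hb' (u : U ⧸ N)
  have hk' : (b : U ⧸ N) ^ k = u := hk
  have h1 : (b ^ k)⁻¹ * u ∈ N := by
    rw [← QuotientGroup.eq, QuotientGroup.mk_zpow, hk']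
  have h2 : N ≤ frattini U := by
    rw [← ha, zpowers_le]; exact haΦ
  have e : u = b ^ k * ((b ^ k)⁻¹ * u) := by group
  rw [e]
  exact mul_mem (le_sup_left (a := zpowers b) (zpow_mem (mem_zpowers b) k))
    (le_sup_right (a := zpowers b) (h2 h1))

end Cfsg.Agent.Lib.Helper68.MT
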