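import Mathlib
import Cfsg.Agent.Lib.Helper14.Class2

set_option autoImplicit false

/-! Finding a dihedral subgroup of order eight. -/

namespace Cfsg.Agent.Lib.Helper68.MT

open Subgroup

variable {G : Type*} [Group G]

theorem mem_zpowers_of_sq {s g : G} (hs : s ^ 2 = 1) (hg : g ∈ zpowers s) : g = 1 ∨ g = s := by
  obtain ⟨k, rfl⟩ := hg
  show s ^ k = 1 ∨ s ^ k = s
  rcases Int.even_or_odd' k with ⟨t, rfl | rfl⟩
  · left
    rw [zpow_mul, zpow_ofNat, hs, one_zpow]
  · right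
    rw [zpow_add, zpow_mul, zpow_ofNat, hs, one_zpow, one_mul, zpow_one]

theorem zpowers_le_normalizer_of_commute {H : Subgroup G} {t : G} (h : ∀ x ∈ H, t * x = x * t) :
    zpowers t ≤ normalizer (H : Set G) := by
  rw [zpowers_le, mem_normalizer_iff]
  intro x
  constructor
  · intro hx
    rw [h x hx, mul_inv_cancel_right]
    exact hx
  · intro hx
    have h1 := h _ hx
    have h2 : t * x = x * t := by
      have e : t * (t * x * t⁻¹) = t * x * t⁻¹ * t := h1
      have e2 : t * x * t⁻¹ * t = t * x := by group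
      rw [e2] at e
      have e3 := mul_left_cancel e
      calc t * x = (t * x * t⁻¹) * t := by group
        _ = x * t := by rw [e3]
    have e : t * x * t⁻¹ = x := by rw [h2, mul_inv_cancel_right]
    rwa [e] at hx

/-- A configuration generating a dihedral group of order eight. -/
theorem exists_order_eight [Finite G] {s t y : G} (hs : s ^ 2 = 1) (hy : y ^ 2 = 1) (hs1 : s ≠ 1)
    (hst : s ≠ t) (hc : s * t = t * s) (hyt : y * s * y⁻¹ = t) :
    ∃ B : Subgroup G, Nat.card B = 2 ^ 3 ∧ ¬ IsMulCommutative B ∧ B ≤ closure {s, y} := by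
  have : Fact (Nat.Prime 2) := ⟨Nat.prime_two⟩
  have ht : t ^ 2 = 1 := by rw [← hyt, conj_pow, hs]; group
  have ht1 : t ≠ 1 := by
    intro h
    rw [h] at hyt
    apply hs1
    have : s = y⁻¹ * (y * s * y⁻¹) * y := by group
    rw [this, hyt]; group
  have hyinv : y⁻¹ = y := by
    rw [inv_eq_iff_mul_eq_one, ← pow_two, hy]
  have hys : y * t * y⁻¹ = s := by
    rw [← hyt, hyinv]
    calc y * (y * s * y) * y = y ^ 2 * s * y ^ 2 := by simp only [pow_two]; group
      _ = s := by rw [hy]; group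
  have hy1 : y ≠ 1 := by
    intro h
    rw [h] at hyt
    apply hst
    simpa using hyt
  have hos : Nat.card (zpowers s) = 2 := by rw [Nat.card_zpowers]; exact orderOf_eq_prime hs hs1
  have hot : Nat.card (zpowers t) = 2 := by rw [Nat.card_zpowers]; exact orderOf_eq_prime ht ht1
  have hoy : Nat.card (zpowers y) = 2 := by rw [Nat.card_zpowers]; exact orderOf_eq_prime hy hy1
  have hn1 : zpowers t ≤ normalizer (zpowers s : Set G) := by
    apply zpowers_le_normalizer_of_commute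
    rintro _ ⟨k, rfl⟩
    exact ((show Commute t s from hc.symm).zpow_right k).eq
  have hinf1 : zpowers s ⊓ zpowers t = ⊥ := by
    rw [eq_bot_iff]
    rintro g ⟨h1, h2⟩
    rw [mem_bot]
    rcases mem_zpowers_of_sq hs h1 with h | h
    · exact h
    · rcases mem_zpowers_of_sq ht h2 with h' | h'
      · exact h'
      · exact absurd (h.symm.trans h') hst
  have hV := Cfsg.Agent.Lib.Helper14.card_mul_card_eq_of_le_normalizer hn1
  rw [hinf1, hos, hot, Subgroup.card_bot, mul_one] at hV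
  have hVc : zpowers s ⊔ zpowers t ≤ centralizer {s} := by
    refine sup_le (zpowers_le.2 ?_) (zpowers_le.2 ?_)
    · rw [mem_centralizer_singleton_iff]
    · rw [mem_centralizer_singleton_iff]; exact hc.symm
  have hyV : y ∉ zpowers s ⊔ zpowers t := by
    intro h
    have := hVc h
    rw [mem_centralizer_singleton_iff] at this
    apply hst
    rw [← hyt, this, mul_inv_cancel_right]
  have hn2 : zpowers y ≤ normalizer ((zpowers s ⊔ zpowers t : Subgroup G) : Set G) := by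
    rw [zpowers_le]
    apply Cfsg.Agent.Lib.Helper14.mem_normalizer_of_map_conj_le
    rw [Subgroup.map_sup, MonoidHom.map_zpowers, MonoidHom.map_zpowers]
    have e1 : (MulAut.conj y).toMonoidHom s = t := by simpa using hyt
    have e2 : (MulAut.conj y).toMonoidHom t = s := by simpa using hys
    rw [e1, e2, sup_comm]
  have hinf2 : (zpowers s ⊔ zpowers t) ⊓ zpowers y = ⊥ := by
    rw [eq_bot_iff]
    rintro g ⟨h1, h2⟩
    rw [mem_bot]
    rcases mem_zpowers_of_sq hy h2 with h | h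
    · exact h
    · exact absurd (h ▸ h1) hyV
  have hB := Cfsg.Agent.Lib.Helper14.card_mul_card_eq_of_le_normalizer hn2
  rw [hinf2, ← hV, hoy, Subgroup.card_bot, mul_one] at hB
  refine ⟨(zpowers s ⊔ zpowers t) ⊔ zpowers y, by rw [← hB]; norm_num, ?_, ?_⟩
  · intro hcomm
    have hsB : s ∈ (zpowers s ⊔ zpowers t) ⊔ zpowers y :=
      le_sup_left (a := zpowers s ⊔ zpowers t) (le_sup_left (a := zpowers s) (mem_zpowers s))
    have hyB : y ∈ (zpowers s ⊔ zpowers t) ⊔ zpowers y :=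
      le_sup_right (a := zpowers s ⊔ zpowers t) (mem_zpowers y)
    have h := congrArg Subtype.val (hcomm.is_comm.comm ⟨y, hyB⟩ ⟨s, hsB⟩)
    have h' : y * s = s * y := h
    apply hst
    rw [← hyt, h', mul_inv_cancel_right]
  · have h1 : s ∈ closure ({s, y} : Set G) := subset_closure (by simp)
    have h2 : y ∈ closure ({s, y} : Set G) := subset_closure (by simp)
    refine sup_le (sup_le (zpowers_le.2 h1) (zpowers_le.2 ?_)) (zpowers_le.2 h2)
    rw [← hyt]
    exact mul_mem (mul_mem h2 h1) (inv_mem h2)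

/-- The wreathed configuration contains a dihedral group of order eight. -/
theorem exists_order_eight_of_swap [Finite G] {u x : G} {m : ℕ} (hu : orderOf u = 2 ^ (m + 1))
    (hc : Commute u (x * u * x⁻¹)) (hinf : zpowers u ⊓ zpowers (x * u * x⁻¹) = ⊥) (i j : ℤ)
    (hx2 : x ^ 2 = u ^ i * (x * u * x⁻¹) ^ j) :
    ∃ B : Subgroup G, Nat.card B = 2 ^ 3 ∧ ¬ IsMulCommutative B := by
  generalize hv : x * u * x⁻¹ = v at *
  -- `x` swaps `u` and `v`
  have hx2u : Commute (x ^ 2) u := by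
    rw [hx2]
    exact ((Commute.refl u).zpow_left i).mul_left (hc.symm.zpow_left j)
  have hvu : x * v * x⁻¹ = u := by
    rw [← hv]
    calc x * (x * u * x⁻¹) * x⁻¹ = (x ^ 2 * u) * (x ^ 2)⁻¹ := by simp only [pow_two]; group
      _ = u := by rw [hx2u.eq, mul_inv_cancel_right]
  have hconj : x * x ^ 2 * x⁻¹ = v ^ i * u ^ j := by
    rw [hx2]
    calc x * (u ^ i * v ^ j) * x⁻¹ = (x * u ^ i * x⁻¹) * (x * v ^ j * x⁻¹) := by group
      _ = v ^ i * u ^ j := by rw [← conj_zpow, ← conj_zpow, hv, hvu]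
  have hconj' : x * x ^ 2 * x⁻¹ = x ^ 2 := by group
  have h1 : u ^ (i - j) = v ^ (i - j) := by
    have e : u ^ i * v ^ j = v ^ i * u ^ j := by rw [← hx2, ← hconj, hconj']
    have e2 : v ^ i * u ^ j = u ^ j * v ^ i := ((hc.symm.zpow_zpow i j)).eq
    rw [e2] at e
    rw [zpow_sub, zpow_sub]
    calc u ^ i * (u ^ j)⁻¹ = (u ^ j)⁻¹ * (u ^ i * v ^ j) * (v ^ j)⁻¹ := by
          rw [((Commute.refl u).zpow_zpow i j).inv_right.eq]; group
      _ = v ^ i * (v ^ j)⁻¹ := by rw [e]; group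
  have h2 : v ^ (i - j) = 1 := by
    have : v ^ (i - j) ∈ zpowers u ⊓ zpowers v :=
      ⟨h1 ▸ zpow_mem (mem_zpowers u) _, zpow_mem (mem_zpowers v) _⟩
    rw [hinf, mem_bot] at this
    exact this
  have hvij : v ^ i = v ^ j := by
    rw [zpow_sub, mul_inv_eq_one] at h2
    exact h2
  -- the involution
  have hy : ((u ^ i)⁻¹ * x) ^ 2 = 1 := by
    calc ((u ^ i)⁻¹ * x) ^ 2 = (u ^ i)⁻¹ * (x * u ^ i * x⁻¹)⁻¹ * x ^ 2 := by
          simp only [pow_two]; group
      _ = (u ^ i)⁻¹ * (v ^ i)⁻¹ * (u ^ i * v ^ j) := by rw [← conj_zpow, hv, hx2]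
      _ = (u ^ i)⁻¹ * ((v ^ i)⁻¹ * u ^ i) * v ^ j := by group
      _ = (u ^ i)⁻¹ * (u ^ i * (v ^ i)⁻¹) * v ^ j := by
          rw [((hc.symm.zpow_zpow i i).inv_left).eq]
      _ = 1 := by rw [hvij]; group
  have hs : (u ^ 2 ^ m) ^ 2 = 1 := by
    rw [← pow_mul, ← pow_succ, ← hu, pow_orderOf_eq_one]
  have hs1 : u ^ 2 ^ m ≠ 1 := by
    apply pow_ne_one_of_lt_orderOf (by positivity)
    rw [hu]
    exact Nat.pow_lt_pow_right (by norm_num) (Nat.lt_succ_self m)
  have hyt : ((u ^ i)⁻¹ * x) * (u ^ 2 ^ m) * ((u ^ i)⁻¹ * x)⁻¹ = v ^ 2 ^ m := by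
    calc ((u ^ i)⁻¹ * x) * (u ^ 2 ^ m) * ((u ^ i)⁻¹ * x)⁻¹
        = (u ^ i)⁻¹ * (x * u ^ 2 ^ m * x⁻¹) * u ^ i := by group
      _ = (u ^ i)⁻¹ * (v ^ 2 ^ m * u ^ i) := by rw [← conj_pow, hv, mul_assoc]
      _ = (u ^ i)⁻¹ * (u ^ i * v ^ 2 ^ m) := by
          rw [((hc.symm.pow_left (2 ^ m)).zpow_right i).eq]
      _ = v ^ 2 ^ m := by group
  have hst : u ^ 2 ^ m ≠ v ^ 2 ^ m := by
    intro h
    have : u ^ 2 ^ m ∈ zpowers u ⊓ zpowers v :=
      ⟨pow_mem (mem_zpowers u) _, h ▸ pow_mem (mem_zpowers v) _⟩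
    rw [hinf, mem_bot] at this
    exact hs1 this
  obtain ⟨B, hB1, hB2, -⟩ := exists_order_eight hs hy hs1 hst (hc.pow_pow _ _).eq hyt
  exact ⟨B, hB1, hB2⟩

end Cfsg.Agent.Lib.Helper68.MT
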