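import Mathlib

set_option autoImplicit false

namespace Cfsg.Agent.Lib.Helper68

variable {G : Type*} [Group G]

/-- the map `a ↦ x a x⁻¹ a⁻¹` on an abelian normal subgroup, as a homomorphism -/
def commHom (A : Subgroup G) [hn : A.Normal] (hA : IsMulCommutative A) (x : G) : A →* A where
  toFun a := ⟨x * a * x⁻¹ * (a : G)⁻¹, A.mul_mem (hn.conj_mem _ a.2 x) (A.inv_mem a.2)⟩
  map_one' := by ext; simp
  map_mul' a b := by
    ext
    have h1 : (x * (b : G) * x⁻¹) * (a : G)⁻¹ = (a : G)⁻¹ * (x * (b : G) * x⁻¹) := by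
      have := hA.is_comm.comm (⟨x * (b : G) * x⁻¹, hn.conj_mem _ b.2 x⟩ : A) (a⁻¹)
      exact congrArg Subtype.val this
    simp only [Subgroup.coe_mul, mul_inv_rev]
    calc x * ((a : G) * b) * x⁻¹ * ((b : G)⁻¹ * (a : G)⁻¹)
        = x * a * x⁻¹ * ((x * b * x⁻¹) * ((b : G)⁻¹ * (a : G)⁻¹)) := by group
      _ = x * a * x⁻¹ * ((x * b * x⁻¹) * ((a : G)⁻¹ * (b : G)⁻¹)) := by
          have := hA.is_comm.comm (b⁻¹) (a⁻¹)
          have h2 : (b : G)⁻¹ * (a : G)⁻¹ = (a : G)⁻¹ * (b : G)⁻¹ := congrArg Subtype.val this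
          rw [h2]
      _ = x * a * x⁻¹ * (((x * b * x⁻¹) * (a : G)⁻¹) * (b : G)⁻¹) := by group
      _ = x * a * x⁻¹ * (((a : G)⁻¹ * (x * b * x⁻¹)) * (b : G)⁻¹) := by rw [h1]
      _ = x * a * x⁻¹ * (a : G)⁻¹ * (x * b * x⁻¹ * (b : G)⁻¹) := by group

@[simp] lemma commHom_coe (A : Subgroup G) [A.Normal] (hA : IsMulCommutative A) (x : G) (a : A) :
    ((commHom A hA x a : A) : G) = x * a * x⁻¹ * (a : G)⁻¹ := rfl

/-- the image of `commHom` viewed in `G` -/
def commRange (A : Subgroup G) [A.Normal] (hA : IsMulCommutative A) (x : G) : Subgroup G :=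
  (commHom A hA x).range.map A.subtype

lemma mem_commRange {A : Subgroup G} [A.Normal] {hA : IsMulCommutative A} {x c : G} :
    c ∈ commRange A hA x ↔ ∃ a ∈ A, x * a * x⁻¹ * a⁻¹ = c := by
  constructor
  · rintro ⟨_, ⟨a, rfl⟩, rfl⟩
    exact ⟨a, a.2, rfl⟩
  · rintro ⟨a, ha, rfl⟩
    exact ⟨_, ⟨⟨a, ha⟩, rfl⟩, rfl⟩

lemma commRange_le (A : Subgroup G) [A.Normal] (hA : IsMulCommutative A) (x : G) :
    commRange A hA x ≤ A := Subgroup.map_subtype_le _

lemma commRange_normal (A : Subgroup G) [hn : A.Normal] (hA : IsMulCommutative A) (x : G)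
    (hgen : A ⊔ Subgroup.zpowers x = ⊤) : (commRange A hA x).Normal := by
  rw [← Subgroup.normalizer_eq_top_iff, eq_top_iff, ← hgen, sup_le_iff]
  constructor
  · rw [Subgroup.le_normalizer_iff]
    intro a ha c hc
    have hcA := commRange_le A hA x hc
    have := hA.is_comm.comm (⟨a, ha⟩ : A) ⟨c, hcA⟩
    have h2 : a * c = c * a := congrArg Subtype.val this
    rw [h2, mul_inv_cancel_right]
    exact hc
  · rw [Subgroup.zpowers_le, Subgroup.mem_normalizer_iff]
    have h1 : ∀ c ∈ commRange A hA x, x * c * x⁻¹ ∈ commRange A hA x := by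
      intro c hc
      obtain ⟨a, ha, rfl⟩ := mem_commRange.mp hc
      exact mem_commRange.mpr ⟨x * a * x⁻¹, hn.conj_mem _ ha x, by group⟩
    have h2 : ∀ c ∈ commRange A hA x, x⁻¹ * c * x ∈ commRange A hA x := by
      intro c hc
      obtain ⟨a, ha, rfl⟩ := mem_commRange.mp hc
      refine mem_commRange.mpr ⟨x⁻¹ * a * x, ?_, by group⟩
      have := hn.conj_mem _ ha x⁻¹
      simpa using this
    intro h
    refine ⟨h1 h, fun hh => ?_⟩
    have := h2 _ hh
    simpa [mul_assoc] using this

lemma commutator_eq_commRange (A : Subgroup G) [hn : A.Normal] (hA : IsMulCommutative A) (x : G)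
    (hgen : A ⊔ Subgroup.zpowers x = ⊤) : commutator G = commRange A hA x := by
  apply le_antisymm
  · have hK := commRange_normal A hA x hgen
    rw [← Subgroup.Normal.quotient_commutative_iff_commutator_le]
    set K := commRange A hA x with hKdef
    set π := QuotientGroup.mk' K with hπ
    have hxa : ∀ a ∈ A, π x * π a = π a * π x := by
      intro a ha
      have h1 : x * a * x⁻¹ * a⁻¹ ∈ K := mem_commRange.mpr ⟨a, ha, rfl⟩
      have h2 : π (x * a * x⁻¹ * a⁻¹) = 1 := (QuotientGroup.eq_one_iff _).mpr h1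
      rw [map_mul, map_mul, map_mul, map_inv, map_inv, mul_inv_eq_one, mul_inv_eq_iff_eq_mul] at h2
      exact h2
    have hab : ∀ a ∈ A, ∀ b ∈ A, π a * π b = π b * π a := by
      intro a ha b hb
      have := hA.is_comm.comm (⟨a, ha⟩ : A) ⟨b, hb⟩
      have h2 : a * b = b * a := congrArg Subtype.val this
      rw [← map_mul, h2, map_mul]
    have hcen : ∀ g : G, π g ∈ Subgroup.center (G ⧸ K) := by
      have hle : A ⊔ Subgroup.zpowers x ≤ (Subgroup.center (G ⧸ K)).comap π := by
        have key : ∀ s : G, (∀ a ∈ A, π s * π a = π a * π s) → π s * π x = π x * π s →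
            s ∈ (Subgroup.center (G ⧸ K)).comap π := by
          intro s h1 h2
          rw [Subgroup.mem_comap, Subgroup.mem_center_iff]
          intro q
          obtain ⟨g, rfl⟩ := QuotientGroup.mk'_surjective K q
          have hle2 : A ⊔ Subgroup.zpowers x ≤ (Subgroup.centralizer {π s}).comap π := by
            rw [sup_le_iff]
            constructor
            · intro a ha
              rw [Subgroup.mem_comap, Subgroup.mem_centralizer_iff]
              intro t ht
              rw [Set.mem_singleton_iff.mp ht]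
              exact h1 a ha
            · rw [Subgroup.zpowers_le, Subgroup.mem_comap, Subgroup.mem_centralizer_iff]
              intro t ht
              rw [Set.mem_singleton_iff.mp ht]
              exact h2
          have hg : g ∈ (Subgroup.centralizer {π s}).comap π := hle2 (hgen ▸ Subgroup.mem_top g)
          rw [Subgroup.mem_comap, Subgroup.mem_centralizer_iff] at hg
          exact (hg _ (Set.mem_singleton _)).symm
        rw [sup_le_iff]
        constructor
        · intro a ha
          exact key a (fun b hb => hab a ha b hb) (hxa a ha).symm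
        · rw [Subgroup.zpowers_le]
          exact key x hxa rfl
      intro g
      exact hle (hgen ▸ Subgroup.mem_top g)
    refine ⟨⟨fun q₁ q₂ => ?_⟩⟩
    obtain ⟨g, rfl⟩ := QuotientGroup.mk'_surjective K q₁
    exact (Subgroup.mem_center_iff.mp (hcen g) q₂).symm
  · intro c hc
    obtain ⟨a, ha, rfl⟩ := mem_commRange.mp hc
    rw [commutator_eq_closure]
    exact Subgroup.subset_closure ⟨x, a, rfl⟩

lemma commHom_ker (A : Subgroup G) [A.Normal] (hA : IsMulCommutative A) (x : G) :
    (commHom A hA x).ker = (Subgroup.centralizer ({x} : Set G)).subgroupOf A := by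
  ext a
  rw [MonoidHom.mem_ker, Subgroup.mem_subgroupOf, Subgroup.mem_centralizer_iff, Subtype.ext_iff]
  simp only [commHom_coe, Subgroup.coe_one, Set.mem_singleton_iff, forall_eq]
  rw [mul_inv_eq_one, mul_inv_eq_iff_eq_mul]

lemma card_commRange_mul (A : Subgroup G) [A.Normal] (hA : IsMulCommutative A) (x : G) :
    Nat.card (commRange A hA x) * Nat.card ↥(A ⊓ Subgroup.centralizer ({x} : Set G)) = Nat.card A := by
  have h1 : Nat.card (commRange A hA x) = Nat.card (commHom A hA x).range :=
    Nat.card_congr ((commHom A hA x).range.equivMapOfInjective _ A.subtype_injective).symm.toEquiv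
  have h2 : Nat.card ↥(A ⊓ Subgroup.centralizer ({x} : Set G)) = Nat.card (commHom A hA x).ker := by
    rw [commHom_ker, inf_comm]
    exact Nat.card_congr (Subgroup.subgroupOfEquivOfLe inf_le_right).symm.toEquiv |>.trans (by
      rw [Subgroup.inf_subgroupOf_right])
  rw [h1, h2, ← Subgroup.index_ker, mul_comm]
  exact Subgroup.card_mul_index _

end Cfsg.Agent.Lib.Helper68
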