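import Mathlib

set_option autoImplicit false

namespace Cfsg.Agent.Lib.Helper68

/-- geometric sum `1 + ρ + ... + ρ^(k-1)` -/
def gs (ρ k : ℕ) : ℕ := ∑ t ∈ Finset.range k, ρ ^ t

lemma gs_zero (ρ : ℕ) : gs ρ 0 = 0 := by simp [gs]

lemma gs_succ (ρ k : ℕ) : gs ρ (k + 1) = gs ρ k + ρ ^ k := by
  simp [gs, Finset.sum_range_succ]

lemma gs_one (k : ℕ) : gs 1 k = k := by simp [gs]

lemma gs_mul (ρ k : ℕ) (hρ : 1 ≤ ρ) : gs ρ k * (ρ - 1) = ρ ^ k - 1 := by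
  have h := geom_sum_mul_add (ρ - 1) k
  rw [Nat.sub_add_cancel hρ] at h
  unfold gs
  omega

section
variable {p : ℕ} [hp : Fact p.Prime]

lemma not_dvd_of_dvd_sub_one {r : ℕ} (h1 : 1 ≤ r) (h : p ∣ r - 1) : ¬ p ∣ r := by
  intro h2
  have h3 : p ∣ r - (r - 1) := Nat.dvd_sub h2 h
  have h4 : r - (r - 1) = 1 := by omega
  rw [h4] at h3
  exact hp.out.one_lt.ne' (Nat.dvd_one.mp h3)

lemma dvd_pow_sub_one {r : ℕ} (h : p ∣ r - 1) (j : ℕ) : p ∣ r ^ j - 1 := by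
  have := Nat.sub_dvd_pow_sub_pow r 1 j
  rw [one_pow] at this
  exact h.trans this

/-- lifting the exponent -/
lemma val_pow_sub_one (hodd : p ≠ 2) {r : ℕ} (h1 : 1 < r) (h : p ∣ r - 1) {j : ℕ} (hj : j ≠ 0) :
    padicValNat p (r ^ j - 1) = padicValNat p (r - 1) + padicValNat p j := by
  have := padicValNat.pow_sub_pow (p := p) (hp.out.odd_of_ne_two hodd) h1 h
    (not_dvd_of_dvd_sub_one h1.le h) hj
  rwa [one_pow] at this

lemma gs_ne_zero {ρ k : ℕ} (hk : k ≠ 0) : gs ρ k ≠ 0 := by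
  obtain ⟨k, rfl⟩ := Nat.exists_eq_succ_of_ne_zero hk
  unfold gs
  rw [Finset.sum_range_succ']
  simp

lemma val_gs (hodd : p ≠ 2) {ρ : ℕ} (h1 : 1 ≤ ρ) (h : p ∣ ρ - 1) {k : ℕ} (hk : k ≠ 0) :
    padicValNat p (gs ρ k) = padicValNat p k := by
  rcases Nat.eq_or_lt_of_le h1 with h2 | h2
  · rw [← h2, gs_one]
  · have h3 := gs_mul ρ k h1
    have h4 := val_pow_sub_one hodd h2 h hk
    rw [← h3, padicValNat.mul (gs_ne_zero hk) (by omega)] at h4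
    omega

lemma pow_dvd_iff_val {x : ℕ} (hx : x ≠ 0) (n : ℕ) : p ^ n ∣ x ↔ n ≤ padicValNat p x :=
  padicValNat_dvd_iff_le hx

end

end Cfsg.Agent.Lib.Helper68
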