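import Mathlib
import Cfsg.Prelude.Def_OddOrderLocal
import Cfsg.Agent.Lib.Helper68.MetaArith
import Cfsg.Agent.Lib.Helper68.CycAb

set_option autoImplicit false
set_option linter.unusedSectionVars false

namespace Cfsg.Agent.Lib.Helper68

/-- coordinates for a metacyclic `p`-group: `⟨a⟩` normal of order `p^m`, `G = ⟨a⟩⟨b⟩`,
`b a b⁻¹ = a^r` with `r ≡ 1 mod p`, `|G/⟨a⟩| = p^l`. -/
structure MC (p : ℕ) {G : Type*} [Group G] (a b : G) (r m l : ℕ) : Prop where
  conj : b * a * b⁻¹ = a ^ r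
  gen : ∀ g : G, ∃ i j : ℕ, g = a ^ i * b ^ j
  one_lt : 1 < r
  dvd : p ∣ r - 1
  ord : orderOf a = p ^ m
  quo : ∀ j : ℕ, b ^ j ∈ Subgroup.zpowers a ↔ p ^ l ∣ j

lemma orderOf_eq_of_forall {G : Type*} [Monoid G] {x : G} {k : ℕ}
    (h : ∀ j : ℕ, x ^ j = 1 ↔ k ∣ j) : orderOf x = k :=
  Nat.dvd_antisymm (orderOf_dvd_iff_pow_eq_one.2 ((h k).2 dvd_rfl))
    ((h _).1 (pow_orderOf_eq_one x))

namespace MC

variable {p : ℕ} {G : Type*} [Group G] {a b : G} {r m l : ℕ}

lemma b_mul_apow (h : MC p a b r m l) (i : ℕ) : b * a ^ i = a ^ (i * r) * b := by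
  have h1 : b * a ^ i * b⁻¹ = (a ^ r) ^ i := by rw [← h.conj, conj_pow]
  rw [mul_inv_eq_iff_eq_mul] at h1
  rw [h1, ← pow_mul, mul_comm r i]

lemma bpow_mul_apow (h : MC p a b r m l) (j i : ℕ) : b ^ j * a ^ i = a ^ (i * r ^ j) * b ^ j := by
  induction j generalizing i with
  | zero => simp
  | succ j ih =>
    rw [pow_succ b j, mul_assoc, h.b_mul_apow, ← mul_assoc, ih, mul_assoc, pow_succ r j]
    congr 2
    ring

lemma mul_formula (h : MC p a b r m l) (i j i' j' : ℕ) :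
    (a ^ i * b ^ j) * (a ^ i' * b ^ j') = a ^ (i + i' * r ^ j) * b ^ (j + j') := by
  rw [mul_assoc, ← mul_assoc (b ^ j), h.bpow_mul_apow, pow_add, pow_add]
  simp only [mul_assoc]

lemma pow_formula (h : MC p a b r m l) (i j k : ℕ) :
    (a ^ i * b ^ j) ^ k = a ^ (i * gs (r ^ j) k) * b ^ (j * k) := by
  induction k with
  | zero => simp [gs_zero]
  | succ k ih =>
    rw [pow_succ, ih, h.mul_formula, gs_succ, ← pow_mul]
    congr 2
    ring

lemma r_pos (h : MC p a b r m l) : 1 ≤ r := h.one_lt.le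

lemma rpow_pos (h : MC p a b r m l) (j : ℕ) : 1 ≤ r ^ j := Nat.one_le_pow _ _ (by have := h.one_lt; omega)

lemma apow_eq_one_iff (h : MC p a b r m l) (x : ℕ) : a ^ x = 1 ↔ p ^ m ∣ x := by
  rw [← h.ord, orderOf_dvd_iff_pow_eq_one]

/-- conjugation of `a` by an arbitrary element -/
lemma conj_a (h : MC p a b r m l) (i j : ℕ) :
    (a ^ i * b ^ j) * a * (a ^ i * b ^ j)⁻¹ = a ^ (r ^ j) := by
  have h1 := h.bpow_mul_apow j 1
  rw [pow_one, one_mul] at h1
  rw [mul_inv_eq_iff_eq_mul, mul_assoc, h1, ← mul_assoc, ← mul_assoc, ← pow_add, ← pow_add, add_comm]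

lemma zpowers_apow_normal (h : MC p a b r m l) (k : ℕ) : (Subgroup.zpowers (a ^ k)).Normal := by
  constructor
  intro n hn g
  obtain ⟨z, rfl⟩ := Subgroup.mem_zpowers_iff.mp hn
  obtain ⟨i, j, rfl⟩ := h.gen g
  have h1 : (a ^ i * b ^ j) * (a ^ k) ^ z * (a ^ i * b ^ j)⁻¹ = ((a ^ k) ^ (r ^ j)) ^ z := by
    rw [← conj_zpow, ← conj_pow, h.conj_a, ← pow_mul, ← pow_mul, mul_comm]
  rw [h1]
  exact Subgroup.zpow_mem _ (Subgroup.pow_mem _ (Subgroup.mem_zpowers _) _) _

lemma zpowers_a_normal (h : MC p a b r m l) : (Subgroup.zpowers a).Normal := by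
  have := h.zpowers_apow_normal 1
  rwa [pow_one] at this

lemma mem_zpowers_a (h : MC p a b r m l) (hp : 0 < p) {x : G} :
    x ∈ Subgroup.zpowers a ↔ ∃ i : ℕ, x = a ^ i := by
  have hfin : IsOfFinOrder a := by
    rw [← orderOf_pos_iff, h.ord]
    exact Nat.pow_pos hp
  rw [← hfin.mem_powers_iff_mem_zpowers, Submonoid.mem_powers_iff]
  exact ⟨fun ⟨i, hi⟩ => ⟨i, hi.symm⟩, fun ⟨i, hi⟩ => ⟨i, hi.symm⟩⟩

lemma sup_eq_top (h : MC p a b r m l) : Subgroup.zpowers a ⊔ Subgroup.zpowers b = ⊤ := by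
  rw [eq_top_iff]
  intro g _
  obtain ⟨i, j, rfl⟩ := h.gen g
  exact Subgroup.mul_mem _
    (Subgroup.pow_mem _ (Subgroup.mem_sup_left (Subgroup.mem_zpowers a)) _)
    (Subgroup.pow_mem _ (Subgroup.mem_sup_right (Subgroup.mem_zpowers b)) _)

/-- index of a normal subgroup containing `a` -/
lemma index_eq (h : MC p a b r m l) (K : Subgroup G) [K.Normal] (ha : a ∈ K) {k : ℕ}
    (hk : ∀ j : ℕ, b ^ j ∈ K ↔ k ∣ j) : K.index = k := by
  have hgen : ∀ q : G ⧸ K, q ∈ Subgroup.zpowers (QuotientGroup.mk b : G ⧸ K) := by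
    intro q
    obtain ⟨g, rfl⟩ := QuotientGroup.mk_surjective q
    obtain ⟨i, j, rfl⟩ := h.gen g
    have h1 : (QuotientGroup.mk (a ^ i) : G ⧸ K) = 1 :=
      (QuotientGroup.eq_one_iff _).mpr (K.pow_mem ha i)
    rw [QuotientGroup.mk_mul, h1, one_mul, QuotientGroup.mk_pow]
    exact Subgroup.pow_mem _ (Subgroup.mem_zpowers _) _
  rw [Subgroup.index_eq_card, ← orderOf_eq_card_of_forall_mem_zpowers hgen]
  apply orderOf_eq_of_forall
  intro j
  rw [← QuotientGroup.mk_pow, QuotientGroup.eq_one_iff]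
  exact hk j

lemma card_eq (h : MC p a b r m l) : Nat.card G = p ^ (m + l) := by
  have := h.zpowers_a_normal
  have h1 := h.index_eq (Subgroup.zpowers a) (Subgroup.mem_zpowers a) h.quo
  rw [← Subgroup.card_mul_index (Subgroup.zpowers a), h1, Nat.card_zpowers, h.ord, pow_add]

section val
variable [hp : Fact p.Prime]

lemma apow_eq_one_iff_val (h : MC p a b r m l) {x : ℕ} (hx : x ≠ 0) :
    a ^ x = 1 ↔ m ≤ padicValNat p x := by
  rw [h.apow_eq_one_iff, pow_dvd_iff_val hx]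

lemma orderOf_apow (h : MC p a b r m l) {x : ℕ} (hx : x ≠ 0) :
    orderOf (a ^ x) = p ^ (m - padicValNat p x) := by
  apply orderOf_eq_of_forall
  intro k
  rcases Nat.eq_zero_or_pos k with rfl | hk
  · simp
  · rw [← pow_mul, h.apow_eq_one_iff_val (Nat.mul_ne_zero hx hk.ne'), pow_dvd_iff_val hk.ne',
      padicValNat.mul hx hk.ne']
    omega

lemma rpow_sub_ne_zero (h : MC p a b r m l) {j : ℕ} (hj : j ≠ 0) : r ^ j - 1 ≠ 0 := by
  have := Nat.one_lt_pow hj h.one_lt
  omega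

lemma val_rpow (h : MC p a b r m l) (hodd : p ≠ 2) {j : ℕ} (hj : j ≠ 0) :
    padicValNat p (r ^ j - 1) = padicValNat p (r - 1) + padicValNat p j :=
  val_pow_sub_one hodd h.one_lt h.dvd hj

lemma bpow_comm_a_iff (h : MC p a b r m l) (hodd : p ≠ 2) (j : ℕ) :
    b ^ j * a = a * b ^ j ↔ p ^ (m - padicValNat p (r - 1)) ∣ j := by
  rcases Nat.eq_zero_or_pos j with rfl | hj
  · simp
  have h1 := h.bpow_mul_apow j 1
  rw [pow_one, one_mul] at h1
  have h2 : a ^ (r ^ j) = a ^ (r ^ j - 1) * a := by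
    rw [← pow_succ, Nat.sub_add_cancel (h.rpow_pos j)]
  rw [h1, mul_left_inj, h2, mul_eq_right, h.apow_eq_one_iff_val (h.rpow_sub_ne_zero hj.ne'),
    h.val_rpow hodd hj.ne', pow_dvd_iff_val hj.ne']
  omega

lemma le_kl (h : MC p a b r m l) (hodd : p ≠ 2) : m ≤ padicValNat p (r - 1) + l := by
  have h1 : b ^ (p ^ l) ∈ Subgroup.zpowers a := (h.quo _).2 dvd_rfl
  obtain ⟨i, hi⟩ := (h.mem_zpowers_a hp.out.pos).1 h1
  have h2 : b ^ (p ^ l) * a = a * b ^ (p ^ l) := by
    rw [hi, ← pow_succ, ← pow_succ']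
  rw [h.bpow_comm_a_iff hodd, Nat.pow_dvd_pow_iff_le_right hp.out.one_lt] at h2
  omega

lemma commutator_eq (h : MC p a b r m l) :
    commutator G = Subgroup.zpowers (a ^ (r - 1)) := by
  have := h.zpowers_a_normal
  rw [commutator_eq_commRange (Subgroup.zpowers a) inferInstance b h.sup_eq_top]
  have key : ∀ i : ℕ, b * a ^ i * b⁻¹ * (a ^ i)⁻¹ = (a ^ (r - 1)) ^ i := by
    intro i
    rw [h.b_mul_apow, mul_inv_cancel_right, mul_inv_eq_iff_eq_mul, ← pow_mul, ← pow_add]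
    congr 1
    have := h.one_lt
    obtain ⟨r', rfl⟩ : ∃ r', r = r' + 1 := ⟨r - 1, by omega⟩
    simp only [Nat.add_sub_cancel]
    ring
  ext c
  rw [mem_commRange]
  constructor
  · rintro ⟨x, hx, rfl⟩
    obtain ⟨i, rfl⟩ := (h.mem_zpowers_a hp.out.pos).1 hx
    rw [key]
    exact Subgroup.pow_mem _ (Subgroup.mem_zpowers _) _
  · intro hc
    have hfin : IsOfFinOrder (a ^ (r - 1)) := by
      apply IsOfFinOrder.pow
      rw [← orderOf_pos_iff, h.ord]
      exact Nat.pow_pos hp.out.pos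
    rw [← hfin.mem_powers_iff_mem_zpowers, Submonoid.mem_powers_iff] at hc
    obtain ⟨i, rfl⟩ := hc
    exact ⟨a ^ i, Subgroup.pow_mem _ (Subgroup.mem_zpowers _) _, key i⟩

lemma r_sub_ne_zero (h : MC p a b r m l) : r - 1 ≠ 0 := by
  have := h.one_lt
  omega

lemma card_commutator (h : MC p a b r m l) :
    Nat.card (commutator G) = p ^ (m - padicValNat p (r - 1)) := by
  rw [h.commutator_eq, Nat.card_zpowers, h.orderOf_apow h.r_sub_ne_zero]

lemma finite (h : MC p a b r m l) : Finite G := by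
  apply Nat.finite_of_card_ne_zero
  rw [h.card_eq]
  exact (Nat.pow_pos hp.out.pos).ne'

lemma mem_centralizer_a {g : G} :
    g ∈ Subgroup.centralizer (Subgroup.zpowers a : Set G) ↔ g * a = a * g := by
  rw [Subgroup.mem_centralizer_iff]
  constructor
  · intro h
    exact (h a (Subgroup.mem_zpowers a)).symm
  · intro h x hx
    obtain ⟨z, rfl⟩ := Subgroup.mem_zpowers_iff.mp hx
    have : Commute a g := h.symm
    exact (this.zpow_left z)

lemma index_centralizer_a (h : MC p a b r m l) (hodd : p ≠ 2) :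
    (Subgroup.centralizer (Subgroup.zpowers a : Set G)).index = p ^ (m - padicValNat p (r - 1)) := by
  have := h.zpowers_a_normal
  apply h.index_eq _ (mem_centralizer_a.2 rfl)
  intro j
  rw [mem_centralizer_a, h.bpow_comm_a_iff hodd]

lemma centralizer_a_comm (h : MC p a b r m l) :
    IsMulCommutative (Subgroup.centralizer (Subgroup.zpowers a : Set G)) := by
  refine ⟨⟨fun x y => ?_⟩⟩
  obtain ⟨x, hx⟩ := x
  obtain ⟨y, hy⟩ := y
  apply Subtype.ext
  change x * y = y * x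
  rw [mem_centralizer_a] at hx hy
  obtain ⟨i, j, rfl⟩ := h.gen x
  obtain ⟨i', j', rfl⟩ := h.gen y
  have e1 : Commute (b ^ j) a := by
    have h1 : Commute (a ^ i * b ^ j) a := hx
    have h2 : Commute (a ^ i) a := (Commute.refl a).pow_left i
    have h3 : Commute ((a ^ i)⁻¹ * (a ^ i * b ^ j)) a := h2.inv_left.mul_left h1
    rwa [inv_mul_cancel_left] at h3
  have e2 : Commute (b ^ j') a := by
    have h1 : Commute (a ^ i' * b ^ j') a := hy
    have h2 : Commute (a ^ i') a := (Commute.refl a).pow_left i'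
    have h3 : Commute ((a ^ i')⁻¹ * (a ^ i' * b ^ j')) a := h2.inv_left.mul_left h1
    rwa [inv_mul_cancel_left] at h3
  have : Commute (a ^ i * b ^ j) (a ^ i' * b ^ j') := by
    apply Commute.mul_left
    · exact Commute.mul_right (Commute.pow_pow_self a i i') (e2.symm.pow_left i)
    · exact Commute.mul_right (e1.pow_right i') (Commute.pow_pow_self b j j')
  exact this

lemma mem_center_iff (h : MC p a b r m l) {g : G} :
    g ∈ Subgroup.center G ↔ g * a = a * g ∧ g * b = b * g := by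
  rw [Subgroup.mem_center_iff]
  constructor
  · intro hg
    exact ⟨(hg a).symm, (hg b).symm⟩
  · rintro ⟨h1, h2⟩ x
    obtain ⟨i, j, rfl⟩ := h.gen x
    have e1 : Commute g a := h1
    have e2 : Commute g b := h2
    exact ((e1.pow_right i).mul_right (e2.pow_right j)).symm

lemma index_center (h : MC p a b r m l) (hodd : p ≠ 2) :
    (Subgroup.center G).index = p ^ (2 * (m - padicValNat p (r - 1))) := by
  have := h.zpowers_a_normal
  have := h.finite
  set C := Subgroup.centralizer (Subgroup.zpowers a : Set G) with hC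
  have hCc : IsMulCommutative C := h.centralizer_a_comm
  have hgen : C ⊔ Subgroup.zpowers b = ⊤ := by
    rw [eq_top_iff, ← h.sup_eq_top]
    apply sup_le_sup_right
    rw [Subgroup.zpowers_le]
    exact mem_centralizer_a.2 rfl
  have h1 := card_commRange_mul C hCc b
  rw [← commutator_eq_commRange C hCc b hgen, h.card_commutator] at h1
  have h2 : C ⊓ Subgroup.centralizer ({b} : Set G) = Subgroup.center G := by
    ext g
    rw [Subgroup.mem_inf, mem_centralizer_a, h.mem_center_iff, Subgroup.mem_centralizer_singleton_iff]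
  rw [h2] at h1
  have h3 := h.index_centralizer_a hodd
  have h4 := Subgroup.card_mul_index C
  have h5 := Subgroup.card_mul_index (Subgroup.center G)
  rw [← h4, ← h1, h3] at h5
  have h6 : 0 < Nat.card (Subgroup.center G) := Nat.card_pos
  have h7 : Nat.card (Subgroup.center G) * (Subgroup.center G).index =
      Nat.card (Subgroup.center G) * p ^ (2 * (m - padicValNat p (r - 1))) := by
    rw [h5, two_mul, pow_add]
    ring
  exact Nat.eq_of_mul_eq_mul_left h6 h7

end val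

end MC

lemma conj_pow_formula {G : Type*} [Group G] {a b : G} {r : ℕ} (h : b * a * b⁻¹ = a ^ r) (j : ℕ) :
    b ^ j * a * (b ^ j)⁻¹ = a ^ (r ^ j) := by
  induction j with
  | zero => simp
  | succ j ih =>
    have : b ^ (j + 1) * a * (b ^ (j + 1))⁻¹ = b * (b ^ j * a * (b ^ j)⁻¹) * b⁻¹ := by
      rw [pow_succ']
      group
    rw [this, ih, ← conj_pow, h, ← pow_mul, pow_succ']

theorem exists_MC {p : ℕ} [hp : Fact p.Prime] {G : Type*} [Group G] [Finite G]
    (hG : IsPGroup p G) (hmc : Cfsg.IsMetacyclic G) :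
    ∃ (a b : G) (r m l : ℕ), MC p a b r m l := by
  obtain ⟨N, hN, hcN, hcQ⟩ := hmc
  obtain ⟨a, rfl⟩ := (Subgroup.isCyclic_iff_exists_zpowers_eq_top N).1 hcN
  obtain ⟨q, hq⟩ := hcQ.exists_generator
  obtain ⟨b, rfl⟩ := QuotientGroup.mk_surjective q
  obtain ⟨m, hm⟩ := IsPGroup.iff_orderOf.1 hG a
  obtain ⟨l, hl⟩ := IsPGroup.iff_orderOf.1 (hG.to_quotient (Subgroup.zpowers a))
    (QuotientGroup.mk b : G ⧸ Subgroup.zpowers a)
  obtain ⟨k, hk⟩ := IsPGroup.iff_orderOf.1 hG b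
  have hquo : ∀ j : ℕ, b ^ j ∈ Subgroup.zpowers a ↔ p ^ l ∣ j := by
    intro j
    rw [← hl, orderOf_dvd_iff_pow_eq_one, ← QuotientGroup.mk_pow, QuotientGroup.eq_one_iff]
  have hgen : ∀ g : G, ∃ i j : ℕ, g = a ^ i * b ^ j := by
    intro g
    have h1 := hq (QuotientGroup.mk g)
    rw [← mem_powers_iff_mem_zpowers, Submonoid.mem_powers_iff] at h1
    obtain ⟨j, hj⟩ := h1
    rw [← QuotientGroup.mk_pow, eq_comm, QuotientGroup.eq_iff_div_mem,
      ← mem_powers_iff_mem_zpowers, Submonoid.mem_powers_iff] at hj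
    obtain ⟨i, hi⟩ := hj
    exact ⟨i, j, by rw [hi, div_mul_cancel]⟩
  have h0 : b * a * b⁻¹ ∈ Subgroup.zpowers a := hN.conj_mem a (Subgroup.mem_zpowers a) b
  rw [← mem_powers_iff_mem_zpowers, Submonoid.mem_powers_iff] at h0
  obtain ⟨r₀, hr₀⟩ := h0
  rcases Nat.eq_zero_or_pos m with rfl | hmpos
  · have ha1 : a = 1 := by
      rw [pow_zero, orderOf_eq_one_iff] at hm
      exact hm
    refine ⟨a, b, p + 1, 0, l, ?_, hgen, ?_, ?_, hm, hquo⟩
    · rw [ha1]; simp
    · have := hp.out.pos; omega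
    · simp
  · have h1 := conj_pow_formula hr₀.symm (p ^ k)
    have h2 : b ^ (p ^ k) = 1 := by rw [← hk]; exact pow_orderOf_eq_one b
    rw [h2, one_mul, inv_one, mul_one] at h1
    have h3 : a ^ 1 = a ^ (r₀ ^ p ^ k) := by rw [pow_one]; exact h1
    rw [pow_eq_pow_iff_modEq, hm] at h3
    have h4 : 1 ≡ r₀ ^ p ^ k [MOD p] := h3.of_dvd (dvd_pow_self p hmpos.ne')
    have h5 : ((r₀ : ℕ) : ZMod p) = 1 := by
      have h6 := (ZMod.natCast_eq_natCast_iff _ _ _).2 h4
      rw [Nat.cast_pow, ZMod.pow_card_pow, Nat.cast_one] at h6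
      exact h6.symm
    have h7 : r₀ ≡ 1 [MOD p] := by
      rw [← ZMod.natCast_eq_natCast_iff, h5, Nat.cast_one]
    have h8 : 1 ≤ r₀ := by
      rcases Nat.eq_zero_or_pos r₀ with rfl | h
      · exfalso
        have := (Nat.modEq_zero_iff_dvd.1 h7.symm)
        exact hp.out.one_lt.ne' (Nat.dvd_one.mp this)
      · exact h
    have h9 : p ∣ r₀ - 1 := (Nat.modEq_iff_dvd' h8).1 h7.symm
    refine ⟨a, b, r₀ + p ^ m, m, l, ?_, hgen, ?_, ?_, hm, hquo⟩
    · rw [pow_add, ← hm, pow_orderOf_eq_one, mul_one, hr₀]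
    · have := Nat.pow_pos (n := m) hp.out.pos
      omega
    · have : r₀ + p ^ m - 1 = (r₀ - 1) + p ^ m := by omega
      rw [this]
      exact Dvd.dvd.add h9 (dvd_pow_self p hmpos.ne')

end Cfsg.Agent.Lib.Helper68
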