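import Mathlib
import Cfsg.Agent.Lib.Helper68.Meta

set_option autoImplicit false
set_option linter.unusedSectionVars false

namespace Cfsg.Agent.Lib.Helper68

/-- powers of a `p`-element lying in a subgroup -/
lemma exists_pow_mem_iff {p : ℕ} [hp : Fact p.Prime] {G : Type*} [Group G] {x : G} {M : ℕ}
    (hx : orderOf x = p ^ M) (H : Subgroup G) :
    ∃ s : ℕ, s ≤ M ∧ ∀ i : ℕ, x ^ i ∈ H ↔ p ^ s ∣ i := by
  classical
  have hex : ∃ s : ℕ, x ^ (p ^ s) ∈ H := ⟨M, by rw [← hx, pow_orderOf_eq_one]; exact H.one_mem⟩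
  refine ⟨Nat.find hex, Nat.find_min' hex (by rw [← hx, pow_orderOf_eq_one]; exact H.one_mem), ?_⟩
  intro i
  constructor
  · intro hi
    rcases Nat.eq_zero_or_pos i with rfl | hipos
    · exact dvd_zero _
    obtain ⟨v, i', hi', rfl⟩ := Nat.exists_eq_pow_mul_and_not_dvd hipos.ne' p hp.out.ne_one
    have hcop : i'.Coprime (orderOf x) := by
      rw [hx]
      exact Nat.Coprime.pow_right _ ((Nat.Prime.coprime_iff_not_dvd hp.out).2 hi').symm
    obtain ⟨u, hu⟩ := exists_pow_eq_self_of_coprime hcop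
    have h1 : x ^ (p ^ v) ∈ H := by
      have h2 : x ^ (p ^ v) = (x ^ (p ^ v * i')) ^ u := by
        conv_lhs => rw [← hu]
        rw [← pow_mul, ← pow_mul, ← pow_mul]
        congr 1
        ring
      rw [h2]
      exact H.pow_mem hi u
    exact Dvd.dvd.mul_right (pow_dvd_pow p (Nat.find_min' hex h1)) _
  · rintro ⟨k, rfl⟩
    rw [pow_mul]
    exact H.pow_mem (Nat.find_spec hex) k

namespace MC

variable {p : ℕ} [hp : Fact p.Prime] {G : Type*} [Group G] {a b : G} {r m l : ℕ}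

lemma orderOf_b (h : MC p a b r m l) : ∃ k, orderOf b = p ^ k := by
  have := h.finite
  have hG : IsPGroup p G := IsPGroup.of_card h.card_eq
  exact IsPGroup.iff_orderOf.1 hG b

theorem sub (h : MC p a b r m l) (L : Subgroup G) :
    ∃ (s t e : ℕ) (h1 : a ^ (p ^ s) ∈ L) (h2 : a ^ e * b ^ (p ^ t) ∈ L), s ≤ m ∧ t ≤ l ∧
      MC p (⟨_, h1⟩ : L) (⟨_, h2⟩ : L) (r ^ (p ^ t)) (m - s) (l - t) := by
  have hN := h.zpowers_a_normal
  obtain ⟨s, hsm, hs⟩ := exists_pow_mem_iff h.ord L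
  obtain ⟨k, hk⟩ := h.orderOf_b
  obtain ⟨t, -, ht⟩ := exists_pow_mem_iff hk (Subgroup.zpowers a ⊔ L)
  have htl : t ≤ l := by
    have h1 : b ^ (p ^ l) ∈ Subgroup.zpowers a ⊔ L := Subgroup.mem_sup_left ((h.quo _).2 dvd_rfl)
    rw [ht, Nat.pow_dvd_pow_iff_le_right hp.out.one_lt] at h1
    exact h1
  have h1 : a ^ (p ^ s) ∈ L := (hs _).2 dvd_rfl
  have h3 : b ^ (p ^ t) ∈ Subgroup.zpowers a ⊔ L := (ht _).2 dvd_rfl
  rw [← SetLike.mem_coe, Subgroup.normal_mul, Set.mem_mul] at h3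
  obtain ⟨n, hn, y, hy, hny⟩ := h3
  obtain ⟨e, he⟩ := (h.mem_zpowers_a hp.out.pos).1 (Subgroup.inv_mem _ hn)
  have h2 : a ^ e * b ^ (p ^ t) ∈ L := by
    rw [← he, ← hny, inv_mul_cancel_left]
    exact hy
  -- membership of `N ⊓ L`
  have hNL : ∀ x : G, x ∈ Subgroup.zpowers a → x ∈ L → ∃ i : ℕ, x = (a ^ (p ^ s)) ^ i := by
    intro x hx hxL
    obtain ⟨i, rfl⟩ := (h.mem_zpowers_a hp.out.pos).1 hx
    obtain ⟨i', rfl⟩ := (hs i).1 hxL
    exact ⟨i', by rw [pow_mul]⟩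
  refine ⟨s, t, e, h1, h2, hsm, htl, ?_, ?_, ?_, ?_, ?_, ?_⟩
  · apply Subtype.ext
    simp only [Subgroup.coe_mul, Subgroup.coe_inv, Subgroup.coe_pow]
    rw [← conj_pow, h.conj_a, ← pow_mul, ← pow_mul, mul_comm]
  · rintro ⟨g, hg⟩
    obtain ⟨i, j, rfl⟩ := h.gen g
    have hj : b ^ j ∈ Subgroup.zpowers a ⊔ L := by
      have : b ^ j = (a ^ i)⁻¹ * (a ^ i * b ^ j) := by rw [inv_mul_cancel_left]
      rw [this]
      exact Subgroup.mul_mem _ (Subgroup.mem_sup_left (Subgroup.inv_mem _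
        (Subgroup.pow_mem _ (Subgroup.mem_zpowers a) _))) (Subgroup.mem_sup_right hg)
    obtain ⟨j', rfl⟩ := (ht j).1 hj
    have hc := h.pow_formula e (p ^ t) j'
    have hx : a ^ i * b ^ (p ^ t * j') * ((a ^ e * b ^ (p ^ t)) ^ j')⁻¹ ∈ Subgroup.zpowers a := by
      rw [hc, mul_inv_rev, mul_assoc, mul_inv_cancel_left]
      exact Subgroup.mul_mem _ (Subgroup.pow_mem _ (Subgroup.mem_zpowers a) _)
        (Subgroup.inv_mem _ (Subgroup.pow_mem _ (Subgroup.mem_zpowers a) _))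
    obtain ⟨i', hi'⟩ := hNL _ hx (L.mul_mem hg (L.inv_mem (L.pow_mem h2 j')))
    refine ⟨i', j', ?_⟩
    apply Subtype.ext
    simp only [Subgroup.coe_mul, Subgroup.coe_pow]
    rw [← hi', inv_mul_cancel_right]
  · exact Nat.one_lt_pow (Nat.pow_pos hp.out.pos).ne' h.one_lt
  · exact dvd_pow_sub_one h.dvd _
  · rw [Subgroup.orderOf_mk, h.orderOf_apow (Nat.pow_pos hp.out.pos).ne', padicValNat.prime_pow]
  · intro j
    have e1 : ((⟨_, h2⟩ : L) ^ j ∈ Subgroup.zpowers (⟨_, h1⟩ : L)) ↔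
        (a ^ e * b ^ (p ^ t)) ^ j ∈ Subgroup.zpowers (a ^ (p ^ s)) := by
      rw [Subgroup.mem_zpowers_iff, Subgroup.mem_zpowers_iff]
      constructor
      · rintro ⟨z, hz⟩
        refine ⟨z, ?_⟩
        have := congrArg Subtype.val hz
        simpa using this
      · rintro ⟨z, hz⟩
        refine ⟨z, ?_⟩
        apply Subtype.ext
        simpa using hz
    have e2 : (a ^ e * b ^ (p ^ t)) ^ j ∈ Subgroup.zpowers (a ^ (p ^ s)) ↔
        (a ^ e * b ^ (p ^ t)) ^ j ∈ Subgroup.zpowers a := by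
      constructor
      · intro hx
        exact (Subgroup.zpowers_le.2 (Subgroup.pow_mem _ (Subgroup.mem_zpowers a) _)) hx
      · intro hx
        obtain ⟨i, hi⟩ := hNL _ hx (L.pow_mem h2 j)
        rw [hi]
        exact Subgroup.pow_mem _ (Subgroup.mem_zpowers _) _
    rw [e1, e2, h.pow_formula, Subgroup.mul_mem_cancel_left _
      (Subgroup.pow_mem _ (Subgroup.mem_zpowers a) _), h.quo]
    obtain ⟨d, rfl⟩ := Nat.exists_eq_add_of_le htl
    rw [Nat.add_sub_cancel_left, pow_add, Nat.mul_dvd_mul_iff_left (Nat.pow_pos hp.out.pos)]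

/-- orders of a subgroup, its derived subgroup and the index of its centre -/
theorem sub_cards (h : MC p a b r m l) (hodd : p ≠ 2) (L : Subgroup G) :
    ∃ s t : ℕ, s ≤ m ∧ t ≤ l ∧ Nat.card L = p ^ ((m - s) + (l - t)) ∧
      Nat.card (commutator L) = p ^ ((m - s) - (padicValNat p (r - 1) + t)) ∧
      (Subgroup.center L).index = p ^ (2 * ((m - s) - (padicValNat p (r - 1) + t))) := by
  obtain ⟨s, t, e, h1, h2, hs, ht, hL⟩ := h.sub L
  have hv : padicValNat p (r ^ p ^ t - 1) = padicValNat p (r - 1) + t := by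
    rw [h.val_rpow hodd (Nat.pow_pos hp.out.pos).ne', padicValNat.prime_pow]
  refine ⟨s, t, hs, ht, hL.card_eq, ?_, ?_⟩
  · rw [hL.card_commutator, hv]
  · rw [hL.index_center hodd, hv]

lemma index_commutator (h : MC p a b r m l) :
    (commutator G).index = p ^ (m + l - (m - padicValNat p (r - 1))) := by
  have := h.finite
  have h1 := Subgroup.card_mul_index (commutator G)
  rw [h.card_commutator, h.card_eq] at h1
  have h2 : p ^ (m + l) = p ^ (m - padicValNat p (r - 1)) * p ^ (m + l - (m - padicValNat p (r - 1))) := by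
    rw [← pow_add]
    congr 1
    omega
  rw [h2] at h1
  exact Nat.eq_of_mul_eq_mul_left (Nat.pow_pos hp.out.pos) h1

end MC

lemma isMulCommutative_iff_card_commutator {H : Type*} [Group H] :
    IsMulCommutative H ↔ Nat.card (commutator H) = 1 := by
  rw [← commutator_eq_bot_iff, Subgroup.card_eq_one]

/-- coordinate-free summary of the orders of subgroups of a metacyclic `p`-group, `p` odd -/
theorem meta_summary {p : ℕ} [hp : Fact p.Prime] {G : Type*} [Group G] [Finite G] (hodd : p ≠ 2)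
    (hG : IsPGroup p G) (hmc : Cfsg.IsMetacyclic G) :
    ∃ B n : ℕ, (commutator G).index = p ^ B ∧ Nat.card (commutator G) = p ^ n ∧
      Nat.card G = p ^ (B + n) ∧
      ∀ L : Subgroup G, ∃ A X : ℕ, Nat.card L = p ^ A ∧ Nat.card (commutator L) = p ^ X ∧
        (Subgroup.center L).index = p ^ (2 * X) ∧ (X = 0 ↔ A ≤ B) ∧ (0 < X → A = B + X) := by
  obtain ⟨a, b, r, m, l, h⟩ := exists_MC hG hmc
  have hkl := h.le_kl hodd
  refine ⟨_, _, h.index_commutator, h.card_commutator, ?_, ?_⟩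
  · rw [h.card_eq]
    congr 1
    omega
  · intro L
    obtain ⟨s, t, hs, ht, h1, h2, h3⟩ := h.sub_cards hodd L
    refine ⟨_, _, h1, h2, h3, ?_, ?_⟩
    · omega
    · omega

end Cfsg.Agent.Lib.Helper68
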