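import Mathlib
import Cfsg.Agent.Lib.Helper68.Meta2

set_option autoImplicit false
set_option linter.unusedSectionVars false

namespace Cfsg.Agent.Lib.Helper68

/-- if all commutators `[x,g]` lie in `T` then the class of `g` has at most `|T|` elements -/
lemma index_centralizer_le {G : Type*} [Group G] (g : G) (T : Subgroup G) [Finite T]
    (hT : ∀ x : G, x * g * x⁻¹ * g⁻¹ ∈ T) :
    (Subgroup.centralizer ({g} : Set G)).index ≤ Nat.card T := by
  let f : G ⧸ Subgroup.centralizer ({g} : Set G) → T :=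
    fun q => ⟨q.out * g * q.out⁻¹ * g⁻¹, hT _⟩
  have hf : Function.Injective f := by
    intro q q' hqq
    have h1 : q.out * g * q.out⁻¹ * g⁻¹ = q'.out * g * q'.out⁻¹ * g⁻¹ := congrArg Subtype.val hqq
    rw [mul_left_inj] at h1
    rw [← QuotientGroup.out_eq' q, ← QuotientGroup.out_eq' q', QuotientGroup.eq,
      Subgroup.mem_centralizer_singleton_iff]
    calc q.out⁻¹ * q'.out * g = q.out⁻¹ * (q'.out * g * q'.out⁻¹) * q'.out := by group
      _ = q.out⁻¹ * (q.out * g * q.out⁻¹) * q'.out := by rw [h1]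
      _ = g * (q.out⁻¹ * q'.out) := by group
  exact Nat.card_le_card_of_injective f hf

/-- the subgroup generated by the `p^s`-th powers -/
def agemo (p s : ℕ) (G : Type*) [Group G] : Subgroup G :=
  Subgroup.closure {x : G | ∃ y : G, y ^ p ^ s = x}

lemma agemo_def (p s : ℕ) (G : Type*) [Group G] :
    agemo p s G = Subgroup.closure {x : G | ∃ y : G, y ^ p ^ s = x} := rfl

lemma pow_mem_agemo (p s : ℕ) {G : Type*} [Group G] (y : G) : y ^ p ^ s ∈ agemo p s G :=
  Subgroup.subset_closure ⟨y, rfl⟩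

lemma agemo_anti (p : ℕ) {s s' : ℕ} (h : s ≤ s') (G : Type*) [Group G] :
    agemo p s' G ≤ agemo p s G := by
  unfold agemo
  rw [Subgroup.closure_le]
  rintro x ⟨y, rfl⟩
  obtain ⟨d, rfl⟩ := Nat.exists_eq_add_of_le h
  rw [pow_add, mul_comm, pow_mul]
  exact pow_mem_agemo p s _

lemma agemo_zero (p : ℕ) (G : Type*) [Group G] : agemo p 0 G = ⊤ := by
  rw [eq_top_iff]
  intro g _
  have := pow_mem_agemo p 0 g
  simpa using this

namespace MC

variable {p : ℕ} [hp : Fact p.Prime] {G : Type*} [Group G] {a b : G} {r m l : ℕ}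

lemma inv_formula (h : MC p a b r m l) (x y : ℕ) :
    ∃ u v : ℕ, (a ^ x * b ^ y)⁻¹ = a ^ (x * u) * b ^ (y * v) := by
  obtain ⟨k, hk⟩ := h.orderOf_b
  have h1 : (b ^ y)⁻¹ = b ^ (y * (p ^ k - 1)) := by
    rw [inv_eq_iff_mul_eq_one, ← pow_add]
    have : y + y * (p ^ k - 1) = p ^ k * y := by
      have := Nat.pow_pos (n := k) hp.out.pos
      obtain ⟨c, hc⟩ : ∃ c, p ^ k = c + 1 := ⟨p ^ k - 1, by omega⟩
      rw [hc, Nat.add_sub_cancel]
      ring
    rw [this, pow_mul, ← hk, pow_orderOf_eq_one, one_pow]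
  have h2 : (a ^ x)⁻¹ = a ^ (x * (p ^ m - 1)) := by
    rw [inv_eq_iff_mul_eq_one, ← pow_add]
    have : x + x * (p ^ m - 1) = p ^ m * x := by
      have := Nat.pow_pos (n := m) hp.out.pos
      obtain ⟨c, hc⟩ : ∃ c, p ^ m = c + 1 := ⟨p ^ m - 1, by omega⟩
      rw [hc, Nat.add_sub_cancel]
      ring
    rw [this, pow_mul, ← h.ord, pow_orderOf_eq_one, one_pow]
  refine ⟨(p ^ m - 1) * r ^ (y * (p ^ k - 1)), p ^ k - 1, ?_⟩
  rw [mul_inv_rev, h1, h2, h.bpow_mul_apow, mul_assoc]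

lemma mem_agemo (h : MC p a b r m l) (hodd : p ≠ 2) (s : ℕ) (g : G) :
    g ∈ agemo p s G ↔ ∃ i j : ℕ, g = a ^ (p ^ s * i) * b ^ (p ^ s * j) := by
  constructor
  · intro hg
    unfold agemo at hg
    induction hg using Subgroup.closure_induction with
    | mem x hx =>
      obtain ⟨y, rfl⟩ := hx
      obtain ⟨i, j, rfl⟩ := h.gen y
      rw [h.pow_formula]
      have h1 : p ^ s ∣ gs (r ^ j) (p ^ s) := by
        rw [pow_dvd_iff_val (gs_ne_zero (Nat.pow_pos hp.out.pos).ne'),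
          val_gs hodd (h.rpow_pos j) (dvd_pow_sub_one h.dvd j) (Nat.pow_pos hp.out.pos).ne',
          padicValNat.prime_pow]
      obtain ⟨c, hc⟩ := h1
      refine ⟨i * c, j, ?_⟩
      rw [hc]
      congr 2
      · ring
      · ring
    | one => exact ⟨0, 0, by simp⟩
    | mul x y _ _ hx hy =>
      obtain ⟨i, j, rfl⟩ := hx
      obtain ⟨i', j', rfl⟩ := hy
      rw [h.mul_formula]
      refine ⟨i + i' * r ^ (p ^ s * j), j + j', ?_⟩
      congr 2
      · ring
      · ring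
    | inv x _ hx =>
      obtain ⟨i, j, rfl⟩ := hx
      obtain ⟨u, v, huv⟩ := h.inv_formula (p ^ s * i) (p ^ s * j)
      exact ⟨i * u, j * v, by rw [huv, mul_assoc, mul_assoc]⟩
  · rintro ⟨i, j, rfl⟩
    rw [mul_comm _ i, mul_comm _ j, pow_mul, pow_mul]
    exact Subgroup.mul_mem _ (pow_mem_agemo p s _) (pow_mem_agemo p s _)

lemma pow_kappa_dvd (_h : MC p a b r m l) (j : ℕ) : p ^ padicValNat p (r - 1) ∣ r ^ j - 1 := by
  have h1 := Nat.sub_dvd_pow_sub_pow r 1 j
  rw [one_pow] at h1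
  exact pow_padicValNat_dvd.trans h1

lemma pow_kappa_add_dvd (h : MC p a b r m l) (hodd : p ≠ 2) (s j : ℕ) :
    p ^ (padicValNat p (r - 1) + s) ∣ r ^ (p ^ s * j) - 1 := by
  rcases Nat.eq_zero_or_pos j with rfl | hj
  · simp
  have h0 : p ^ s * j ≠ 0 := Nat.mul_ne_zero (Nat.pow_pos hp.out.pos).ne' hj.ne'
  rw [pow_dvd_iff_val (h.rpow_sub_ne_zero h0), h.val_rpow hodd h0,
    padicValNat.mul (Nat.pow_pos hp.out.pos).ne' hj.ne', padicValNat.prime_pow]
  omega

/-- class size bound for elements of `℧_s` -/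
lemma index_centralizer_le_of_mem_agemo (h : MC p a b r m l) (hodd : p ≠ 2) (s : ℕ) {g : G}
    (hg : g ∈ agemo p s G) :
    (Subgroup.centralizer ({g} : Set G)).index ≤ p ^ (m - (padicValNat p (r - 1) + s)) := by
  have := h.finite
  set κ := padicValNat p (r - 1) with hκ
  have hcard : Nat.card (Subgroup.zpowers (a ^ (p ^ (κ + s)))) = p ^ (m - (κ + s)) := by
    rw [Nat.card_zpowers, h.orderOf_apow (Nat.pow_pos hp.out.pos).ne', padicValNat.prime_pow]
  rw [← hcard]
  apply index_centralizer_le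
  have hT : ∀ x : ℕ, p ^ (κ + s) ∣ x → a ^ x ∈ Subgroup.zpowers (a ^ (p ^ (κ + s))) := by
    rintro x ⟨c, rfl⟩
    rw [pow_mul]
    exact Subgroup.pow_mem _ (Subgroup.mem_zpowers _) _
  obtain ⟨i, j, rfl⟩ := (h.mem_agemo hodd s g).1 hg
  intro x
  obtain ⟨i', j', rfl⟩ := h.gen x
  set I := p ^ s * i with hI
  set J := p ^ s * j with hJ
  have e1 : a ^ i' * b ^ j' * (a ^ I * b ^ J) * (a ^ i' * b ^ j')⁻¹ * (a ^ I * b ^ J)⁻¹ =
      (a ^ i' * b ^ j' * (a ^ I * b ^ J)) * ((a ^ I * b ^ J) * (a ^ i' * b ^ j'))⁻¹ := by group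
  have e2 : i' + I * r ^ j' = (i' + I) + I * (r ^ j' - 1) := by
    have := h.rpow_pos j'
    obtain ⟨c, hc⟩ : ∃ c, r ^ j' = c + 1 := ⟨r ^ j' - 1, by omega⟩
    rw [hc, Nat.add_sub_cancel]; ring
  have e3 : I + i' * r ^ J = (i' + I) + i' * (r ^ J - 1) := by
    have := h.rpow_pos J
    obtain ⟨c, hc⟩ : ∃ c, r ^ J = c + 1 := ⟨r ^ J - 1, by omega⟩
    rw [hc, Nat.add_sub_cancel]; ring
  rw [e1, h.mul_formula, h.mul_formula, add_comm J j', mul_inv_rev, mul_assoc,
    mul_inv_cancel_left, e2, e3, pow_add a (i' + I) (I * (r ^ j' - 1)),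
    pow_add a (i' + I) (i' * (r ^ J - 1)), mul_inv_rev]
  have e4 : a ^ (i' + I) * a ^ (I * (r ^ j' - 1)) * ((a ^ (i' * (r ^ J - 1)))⁻¹ * (a ^ (i' + I))⁻¹) =
      a ^ (I * (r ^ j' - 1)) * (a ^ (i' * (r ^ J - 1)))⁻¹ := by
    have c1 : Commute (a ^ (i' + I)) (a ^ (I * (r ^ j' - 1)) * (a ^ (i' * (r ^ J - 1)))⁻¹) :=
      (Commute.pow_pow_self a _ _).mul_right (Commute.pow_pow_self a _ _).inv_right
    calc _ = (a ^ (i' + I) * (a ^ (I * (r ^ j' - 1)) * (a ^ (i' * (r ^ J - 1)))⁻¹)) * (a ^ (i' + I))⁻¹ := by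
          group
      _ = _ := by rw [c1.eq, mul_inv_cancel_right]
  rw [e4]
  apply Subgroup.mul_mem
  · apply hT
    rw [pow_add, mul_comm, hI]
    exact Nat.mul_dvd_mul (Dvd.intro _ rfl) (h.pow_kappa_dvd j')
  · apply Subgroup.inv_mem
    apply hT
    exact Dvd.dvd.mul_left (h.pow_kappa_add_dvd hodd s j) _

/-- coordinates of central elements -/
lemma mem_center_coord (h : MC p a b r m l) (hodd : p ≠ 2) (x y : ℕ) :
    a ^ x * b ^ y ∈ Subgroup.center G ↔
      p ^ (m - padicValNat p (r - 1)) ∣ x ∧ p ^ (m - padicValNat p (r - 1)) ∣ y := by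
  have := h.finite
  set n := m - padicValNat p (r - 1) with hn
  have hU : ∀ g ∈ agemo p n G, g ∈ Subgroup.center G := by
    intro g hg
    have h1 := h.index_centralizer_le_of_mem_agemo hodd n hg
    have h2 : m - (padicValNat p (r - 1) + n) = 0 := by omega
    rw [h2, pow_zero] at h1
    have h3 : (Subgroup.centralizer ({g} : Set G)).index = 1 := by
      have := Subgroup.index_ne_zero_of_finite (H := Subgroup.centralizer ({g} : Set G))
      omega
    rw [Subgroup.index_eq_one] at h3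
    rw [Subgroup.mem_center_iff]
    intro x
    have h4 : x ∈ Subgroup.centralizer ({g} : Set G) := h3 ▸ Subgroup.mem_top x
    rw [Subgroup.mem_centralizer_singleton_iff] at h4
    exact h4
  constructor
  · intro hc
    have h1 := (h.mem_center_iff.1 hc).1
    have h2 : b ^ y * a = a * b ^ y := by
      have c1 : Commute (a ^ x * b ^ y) a := h1
      have c2 : Commute (a ^ x) a := (Commute.refl a).pow_left x
      have c3 : Commute ((a ^ x)⁻¹ * (a ^ x * b ^ y)) a := c2.inv_left.mul_left c1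
      rwa [inv_mul_cancel_left] at c3
    have hy : p ^ n ∣ y := (h.bpow_comm_a_iff hodd y).1 h2
    refine ⟨?_, hy⟩
    obtain ⟨y', rfl⟩ := hy
    have h3 : b ^ (p ^ n * y') ∈ Subgroup.center G :=
      hU _ ((h.mem_agemo hodd n _).2 ⟨0, y', by simp⟩)
    have h4 : a ^ x ∈ Subgroup.center G := by
      have := Subgroup.mul_mem _ hc (Subgroup.inv_mem _ h3)
      rwa [mul_inv_cancel_right] at this
    have h5 := (h.mem_center_iff.1 h4).2
    rw [h.b_mul_apow, mul_left_inj] at h5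
    rcases Nat.eq_zero_or_pos x with rfl | hx
    · exact dvd_zero _
    have h6 : x * r = x + x * (r - 1) := by
      have := h.one_lt
      obtain ⟨c, hc⟩ : ∃ c, r = c + 1 := ⟨r - 1, by omega⟩
      rw [hc, Nat.add_sub_cancel]; ring
    rw [h6, pow_add, left_eq_mul, h.apow_eq_one_iff_val (Nat.mul_ne_zero hx.ne' h.r_sub_ne_zero),
      padicValNat.mul hx.ne' h.r_sub_ne_zero] at h5
    rw [pow_dvd_iff_val hx.ne']
    omega
  · rintro ⟨⟨x', rfl⟩, ⟨y', rfl⟩⟩
    exact hU _ ((h.mem_agemo hodd n _).2 ⟨x', y', rfl⟩)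

theorem agemo_eq_center (h : MC p a b r m l) (hodd : p ≠ 2) :
    agemo p (m - padicValNat p (r - 1)) G = Subgroup.center G := by
  ext g
  obtain ⟨x, y, rfl⟩ := h.gen g
  rw [h.mem_center_coord hodd, h.mem_agemo hodd]
  constructor
  · rintro ⟨i, j, hij⟩
    have h1 : a ^ x * b ^ y ∈ Subgroup.center G := by
      rw [hij, h.mem_center_coord hodd]
      exact ⟨Dvd.intro _ rfl, Dvd.intro _ rfl⟩
    exact (h.mem_center_coord hodd x y).1 h1
  · rintro ⟨⟨x', rfl⟩, ⟨y', rfl⟩⟩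
    exact ⟨x', y', rfl⟩

lemma isMetacyclic (h : MC p a b r m l) : Cfsg.IsMetacyclic G := by
  have hN := h.zpowers_a_normal
  refine ⟨Subgroup.zpowers a, hN, inferInstance, ?_⟩
  refine ⟨⟨(QuotientGroup.mk b : G ⧸ Subgroup.zpowers a), fun q => ?_⟩⟩
  obtain ⟨g, rfl⟩ := QuotientGroup.mk_surjective q
  obtain ⟨i, j, rfl⟩ := h.gen g
  have h1 : (QuotientGroup.mk (a ^ i) : G ⧸ Subgroup.zpowers a) = 1 :=
    (QuotientGroup.eq_one_iff _).mpr (Subgroup.pow_mem _ (Subgroup.mem_zpowers a) i)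
  rw [QuotientGroup.mk_mul, h1, one_mul, QuotientGroup.mk_pow]
  exact Subgroup.pow_mem _ (Subgroup.mem_zpowers _) _

end MC

section free

variable {p : ℕ} [hp : Fact p.Prime] {G : Type*} [Group G] [Finite G]

theorem isMetacyclic_subgroup (hG : IsPGroup p G) (hmc : Cfsg.IsMetacyclic G) (L : Subgroup G) :
    Cfsg.IsMetacyclic L := by
  obtain ⟨a, b, r, m, l, h⟩ := exists_MC hG hmc
  obtain ⟨s, t, e, h1, h2, -, -, hL⟩ := h.sub L
  exact hL.isMetacyclic

theorem agemo_eq_center (hodd : p ≠ 2) (hG : IsPGroup p G) (hmc : Cfsg.IsMetacyclic G) {n : ℕ}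
    (hn : Nat.card (commutator G) = p ^ n) : agemo p n G = Subgroup.center G := by
  obtain ⟨a, b, r, m, l, h⟩ := exists_MC hG hmc
  rw [h.card_commutator] at hn
  rw [← Nat.pow_right_injective hp.out.two_le hn]
  exact h.agemo_eq_center hodd

theorem index_centralizer_le_of_mem_agemo (hodd : p ≠ 2) (hG : IsPGroup p G)
    (hmc : Cfsg.IsMetacyclic G) {n : ℕ} (hn : Nat.card (commutator G) = p ^ n) (s : ℕ) {g : G}
    (hg : g ∈ agemo p s G) : (Subgroup.centralizer ({g} : Set G)).index ≤ p ^ (n - s) := by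
  obtain ⟨a, b, r, m, l, h⟩ := exists_MC hG hmc
  rw [h.card_commutator] at hn
  rw [← Nat.pow_right_injective hp.out.two_le hn, Nat.sub_sub]
  exact h.index_centralizer_le_of_mem_agemo hodd s hg

omit hp [Finite G] in
lemma coe_mem_agemo (s : ℕ) (L : Subgroup G) {x : L} (hx : x ∈ agemo p s L) :
    (x : G) ∈ agemo p s G := by
  have h1 : agemo p s L ≤ (agemo p s G).comap L.subtype := by
    unfold agemo
    rw [Subgroup.closure_le]
    rintro _ ⟨y, rfl⟩
    change ((y ^ p ^ s : L) : G) ∈ agemo p s G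
    rw [Subgroup.coe_pow]
    exact pow_mem_agemo p s _
  exact h1 hx

theorem mem_agemo_of_index_centralizer_le (hodd : p ≠ 2) (hG : IsPGroup p G)
    (hmc : Cfsg.IsMetacyclic G) {n : ℕ} (hn : Nat.card (commutator G) = p ^ n) {s : ℕ}
    (hs : s ≤ n) {g : G} (hg : (Subgroup.centralizer ({g} : Set G)).index ≤ p ^ (n - s)) :
    g ∈ agemo p s G := by
  rcases Nat.eq_zero_or_pos s with rfl | hspos
  · rw [agemo_zero]; exact Subgroup.mem_top g
  obtain ⟨B, n', hB, hn', hcard, hL⟩ := meta_summary hodd hG hmc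
  obtain rfl : n = n' := Nat.pow_right_injective hp.out.two_le (hn.symm.trans hn')
  set C := Subgroup.centralizer ({g} : Set G) with hC
  obtain ⟨A, X, h1, h2, h3, h4, h5⟩ := hL C
  have h6 := Subgroup.card_mul_index C
  rw [h1, hcard] at h6
  have hAle : A ≤ B + n := by
    have : p ^ A ∣ p ^ (B + n) := Dvd.intro _ h6
    exact (Nat.pow_dvd_pow_iff_le_right hp.out.one_lt).1 this
  have h7 : C.index = p ^ (B + n - A) := by
    have h8 : p ^ (B + n) = p ^ A * p ^ (B + n - A) := by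
      rw [← pow_add]; congr 1; omega
    rw [h8] at h6
    exact Nat.eq_of_mul_eq_mul_left (Nat.pow_pos hp.out.pos) h6
  rw [h7, Nat.pow_le_pow_iff_right hp.out.one_lt] at hg
  have hX : s ≤ X := by
    have hX0 : 0 < X := by
      rcases Nat.eq_zero_or_pos X with hX | hX
      · have := h4.1 hX
        omega
      · exact hX
    have := h5 hX0
    omega
  have hgC : g ∈ C := by
    rw [hC, Subgroup.mem_centralizer_singleton_iff]
  have hcen : (⟨g, hgC⟩ : C) ∈ Subgroup.center C := by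
    rw [Subgroup.mem_center_iff]
    rintro ⟨y, hy⟩
    apply Subtype.ext
    rw [hC, Subgroup.mem_centralizer_singleton_iff] at hy
    exact hy
  rw [← agemo_eq_center hodd (hG.to_subgroup C) (isMetacyclic_subgroup hG hmc C) h2] at hcen
  exact agemo_anti p hX G (coe_mem_agemo X C hcen)

end free

end Cfsg.Agent.Lib.Helper68
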