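import Mathlib
import Cfsg.Agent.Lib.Helper14.Class2
import Cfsg.Agent.Lib.Helper68.MT5
import Cfsg.Agent.Lib.Helper68.Meta3
import Cfsg.Agent.Lib.Helper89.MetaOmega
import Cfsg.Agent.Lib.Helper59.TausskyClassify
import Cfsg.Agent.Lib.Helper59.TwoGroupRecog
import Cfsg.Agent.Lib.Helper59.MaxClassIndex
import Cfsg.Agent.S4143

set_option autoImplicit false

/-! A metacyclic `2`-group with a nonabelian subgroup of order eight has maximal class. -/

namespace Cfsg.Agent.Lib.Helper68.MT

open Subgroup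

/-- Sections of exponent two of a metacyclic `2`-group have order at most four. -/
theorem card_le_of_sq {P : Type*} [Group P] [Finite P] (hP : IsPGroup 2 P)
    (hm : Cfsg.IsMetacyclic P) (E Z : Subgroup P) (hZE : Z ≤ E)
    (hn : ∀ e ∈ E, ∀ z ∈ Z, e * z * e⁻¹ ∈ Z) (hsq : ∀ e ∈ E, e ^ 2 ∈ Z) :
    Nat.card E ≤ 4 * Nat.card Z := by
  have : Fact (Nat.Prime 2) := ⟨Nat.prime_two⟩
  have hmE : Cfsg.IsMetacyclic E := Cfsg.Agent.Lib.Helper68.isMetacyclic_subgroup hP hm E
  have hnorm : (Z.subgroupOf E).Normal := by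
    constructor
    intro z hz e
    rw [mem_subgroupOf] at hz ⊢
    exact hn e e.2 z hz
  have hq := Cfsg.Agent.Lib.Helper89.isMetacyclic_quotient hmE (Z.subgroupOf E)
  have h1 := Cfsg.Agent.Lib.Helper89.card_le_of_exponent_of_metacyclic (p := 2) (by norm_num) hq ⊤
    (by
      intro v _
      induction v using QuotientGroup.induction_on with
      | H e =>
        rw [← QuotientGroup.mk_pow, QuotientGroup.eq_one_iff, mem_subgroupOf]
        exact hsq e e.2)
  rw [Subgroup.card_top] at h1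
  have h2 := Subgroup.card_eq_card_quotient_mul_card_subgroup (Z.subgroupOf E)
  have h3 : Nat.card (Z.subgroupOf E) = Nat.card Z :=
    Nat.card_congr (Subgroup.subgroupOfEquivOfLe hZE).toEquiv
  rw [h2, h3]
  exact Nat.mul_le_mul_right _ (by omega)

/-- The centre of a nonabelian group of order eight. -/
theorem center_of_order_eight {B : Type*} [Group B] [Finite B] (hB : Nat.card B = 2 ^ 3)
    (hna : ¬ IsMulCommutative B) : Nat.card (center B) = 2 ∧ ∀ b : B, b ^ 2 ∈ center B := by
  have : Fact (Nat.Prime 2) := ⟨Nat.prime_two⟩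
  have hp : IsPGroup 2 B := IsPGroup.of_card hB
  have hnt : Nontrivial B := by
    rw [← Finite.one_lt_card_iff_nontrivial, hB]; norm_num
  have hncyc : ¬ IsCyclic (B ⧸ center B) := by
    intro hc
    apply hna
    exact MonoidHom.isMulCommutative_of_isCyclic_of_ker_le_center (QuotientGroup.mk' (center B))
      (by rw [QuotientGroup.ker_mk'])
  have hmul := Subgroup.card_eq_card_quotient_mul_card_subgroup (center B)
  rw [hB] at hmul
  obtain ⟨j, hj, hcj⟩ := (Nat.dvd_prime_pow Nat.prime_two).1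
    (hB ▸ Subgroup.card_subgroup_dvd_card (center B))
  have hc1 : Nat.card (center B) ≠ 1 := by
    intro h
    have := hp.center_nontrivial
    rw [Subgroup.card_eq_one] at h
    rw [Subgroup.nontrivial_iff_ne_bot] at this
    exact this h
  have hj1 : j = 1 := by
    interval_cases j
    · exact absurd hcj (by simpa using hc1)
    · rfl
    · exfalso
      rw [hcj] at hmul
      have h2 : Nat.card (B ⧸ center B) = 2 := by omega
      exact hncyc (isCyclic_of_prime_card h2)
    · exfalso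
      rw [hcj] at hmul
      have h2 : Nat.card (B ⧸ center B) = 1 := by omega
      have : Subsingleton (B ⧸ center B) := (Nat.card_eq_one_iff_unique.1 h2).1
      exact hncyc inferInstance
  subst hj1
  rw [pow_one] at hcj
  refine ⟨hcj, fun b => ?_⟩
  rw [hcj] at hmul
  have h4 : Nat.card (B ⧸ center B) = 4 := by omega
  rw [← QuotientGroup.eq_one_iff, QuotientGroup.mk_pow]
  have hd : orderOf (b : B ⧸ center B) ∣ 2 ^ 2 := by
    have := orderOf_dvd_natCard (b : B ⧸ center B)
    rw [h4] at this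
    exact this
  obtain ⟨i, hi, hoi⟩ := (Nat.dvd_prime_pow Nat.prime_two).1 hd
  have hi2 : i ≠ 2 := by
    rintro rfl
    apply hncyc
    apply isCyclic_of_orderOf_eq_card (b : B ⧸ center B)
    rw [hoi, h4]; norm_num
  apply orderOf_dvd_iff_pow_eq_one.1
  rw [hoi]
  have hi1 : i ≤ 1 := by omega
  calc 2 ^ i ∣ 2 ^ 1 := pow_dvd_pow 2 hi1
    _ = 2 := pow_one 2

theorem centralizer_le_of_order_eight {P : Type*} [Group P] [Finite P] (hP : IsPGroup 2 P)
    (hm : Cfsg.IsMetacyclic P) (B : Subgroup P) (hB : Nat.card B = 2 ^ 3)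
    (hna : ¬ IsMulCommutative B) : centralizer (B : Set P) ≤ B := by
  by_contra hcon
  obtain ⟨c0, hc0, hc0B⟩ := SetLike.not_le_iff_exists.1 hcon
  obtain ⟨c, hc, hcB, hc2⟩ : ∃ c ∈ centralizer (B : Set P), c ∉ B ∧ c ^ 2 ∈ B := by
    classical
    obtain ⟨m, hm'⟩ := hP c0
    have hex : ∃ j, c0 ^ (2 ^ j) ∈ B := ⟨m, hm' ▸ one_mem B⟩
    have hj : c0 ^ (2 ^ (Nat.find hex)) ∈ B := Nat.find_spec hex
    have hj0 : Nat.find hex ≠ 0 := by
      intro h
      rw [h] at hj
      simp only [pow_zero, pow_one] at hj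
      exact hc0B hj
    obtain ⟨j', hj'⟩ := Nat.exists_eq_succ_of_ne_zero hj0
    refine ⟨c0 ^ (2 ^ j'), pow_mem hc0 _, Nat.find_min hex (by omega), ?_⟩
    rw [← pow_mul, ← pow_succ]
    rw [hj'] at hj
    exact hj
  obtain ⟨hZ2, hZsq⟩ := center_of_order_eight hB hna
  have hcc : ∀ x ∈ B, c * x = x * c := by
    intro x hx
    exact (mem_centralizer_iff.1 hc x hx).symm
  have hZcard : Nat.card ((center B).map B.subtype) = 2 := by
    rw [Subgroup.card_map_of_injective B.subtype_injective, hZ2]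
  have hZB : (center B).map B.subtype ≤ B := by
    rintro _ ⟨z, -, rfl⟩
    exact z.2
  have hZc : ∀ z ∈ (center B).map B.subtype, ∀ b ∈ B, b * z = z * b := by
    rintro _ ⟨z, hz, rfl⟩ b hb
    exact congrArg Subtype.val (mem_center_iff.1 hz ⟨b, hb⟩)
  have hnorm : zpowers c ≤ normalizer (B : Set P) := zpowers_le_normalizer_of_commute hcc
  have hc2Z : c ^ 2 ∈ (center B).map B.subtype := by
    refine ⟨⟨c ^ 2, hc2⟩, ?_, rfl⟩
    rw [SetLike.mem_coe, mem_center_iff]
    intro g
    apply Subtype.ext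
    show (g : P) * c ^ 2 = c ^ 2 * g
    exact ((show Commute c (g : P) from hcc g g.2).pow_left 2).eq.symm
  have hle := card_le_of_sq hP hm (B ⊔ zpowers c) ((center B).map B.subtype)
    (hZB.trans le_sup_left)
    (by
      intro e he z hz
      obtain ⟨b, hb, _, ⟨k, rfl⟩, rfl⟩ :=
        (Cfsg.Agent.Lib.Helper14.mem_sup_of_le_normalizer hnorm).1 he
      have h1 : Commute (c ^ k) z := (show Commute c z from hcc z (hZB hz)).zpow_left k
      have h2 : Commute b z := hZc z hz b hb
      have h3 : Commute (b * c ^ k) z := h2.mul_left h1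
      show b * c ^ k * z * (b * c ^ k)⁻¹ ∈ _
      rw [h3.eq, mul_inv_cancel_right]
      exact hz)
    (by
      intro e he
      obtain ⟨b, hb, _, ⟨k, rfl⟩, rfl⟩ :=
        (Cfsg.Agent.Lib.Helper14.mem_sup_of_le_normalizer hnorm).1 he
      have h1 : Commute b (c ^ k) := ((show Commute c b from hcc b hb).zpow_left k).symm
      show (b * c ^ k) ^ 2 ∈ _
      rw [h1.mul_pow]
      refine mul_mem ⟨⟨b, hb⟩ ^ 2, hZsq _, rfl⟩ ?_
      rw [← zpow_natCast, ← zpow_mul, mul_comm, zpow_mul, zpow_natCast]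
      exact zpow_mem hc2Z k)
  rw [hZcard] at hle
  have heq : B = B ⊔ zpowers c := Subgroup.eq_of_le_of_card_ge le_sup_left (by rw [hB]; omega)
  apply hcB
  rw [heq]
  exact le_sup_right (a := B) (mem_zpowers c)

open Cfsg.Agent.Lib.Helper59 in
/-- A metacyclic `2`-group with a nonabelian subgroup of order eight is dihedral, quaternion or
quasi-dihedral. -/
theorem classify_of_order_eight {P : Type*} [Group P] [Finite P] (hP : IsPGroup 2 P)
    (hm : Cfsg.IsMetacyclic P) (B : Subgroup P) (hB : Nat.card B = 2 ^ 3)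
    (hna : ¬ IsMulCommutative B) :
    (∃ m : ℕ, Nonempty (P ≃* DihedralGroup m)) ∨ (∃ m : ℕ, Nonempty (P ≃* QuaternionGroup m)) ∨
      Cfsg.IsQuasiDihedral P := by
  have : Fact (Nat.Prime 2) := ⟨Nat.prime_two⟩
  have hC := centralizer_le_of_order_eight hP hm B hB hna
  obtain ⟨n0, hn0⟩ := hP.exists_card_eq
  have hclass := Cfsg.Agent.S4143.result n0 hn0 B hB hna hC
  have hn3 : 3 ≤ n0 := by
    have : 2 ^ 3 ∣ 2 ^ n0 := by
      rw [← hB, ← hn0]; exact Subgroup.card_subgroup_dvd_card _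
    exact (Nat.pow_dvd_pow_iff_le_right (by norm_num)).mp this
  have hidx : (commutator P).index = 4 := by
    rw [index_commutator_of_maxClass n0 P (by omega) hn0 hclass]
    norm_num
  have hnaP : ∃ u v : P, u * v ≠ v * u := by
    by_contra hcon
    push Not at hcon
    exact hna ⟨⟨fun a b => Subtype.ext (hcon a b)⟩⟩
  obtain ⟨n, a, b, hn3', hn, ha, hb, hcase⟩ := taussky_classify hP hidx hnaP
  obtain ⟨k, rfl⟩ : ∃ k, n = k + 3 := ⟨n - 3, by omega⟩
  rcases hcase with ⟨hbb, hba⟩ | ⟨hbb, hba⟩ | ⟨h4, hbb, hba⟩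
  · left
    refine ⟨_, dihedral_recog (2 ^ (k + 2)) (by positivity) a b ha (by rw [← pow_two, hbb]) hba hb ?_⟩
    rw [hn]; ring
  · right; left
    refine ⟨_, quaternion_recog (2 ^ (k + 1)) (by positivity) a b ?_ ?_ hba hb ?_⟩
    · rw [ha]
      show 2 ^ (k + 2) = _
      ring
    · rw [← pow_two, hbb]
      rfl
    · rw [hn]; ring
  · right; right
    refine ⟨k + 2, by omega, hn, a, b, ha, ?_, hba⟩
    apply orderOf_eq_prime hbb
    rintro rfl
    exact hb (Subgroup.one_mem _)

end Cfsg.Agent.Lib.Helper68.MT
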