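import Mathlib
import Cfsg.Agent.Lib.Helper68.MT4
import Cfsg.Agent.Lib.Helper68.MT6
import Cfsg.Agent.Lib.Helper89.OddStab

set_option autoImplicit false

/-! The group theoretic core of the theorem on strongly closed metacyclic `2`-subgroups. -/

namespace Cfsg.Agent.Lib.Helper68.MT

open Subgroup Cfsg.Agent.Lib.Helper77 Cfsg.Agent.Lib.Helper89

theorem card_eq_eight_of_le {U : Type*} [Group U] [Finite U] (hU : IsPGroup 2 U)
    (hcard : Nat.card U ≤ 8) {u v : U} (huv : u * v ≠ v * u) : Nat.card U = 2 ^ 3 := by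
  have : Fact (Nat.Prime 2) := ⟨Nat.prime_two⟩
  obtain ⟨e, he⟩ := hU.exists_card_eq
  have he3 : e ≤ 3 := by
    by_contra hcon
    have : 2 ^ 4 ≤ 2 ^ e := Nat.pow_le_pow_right (by norm_num) (by omega)
    omega
  interval_cases e
  · exfalso
    have : Subsingleton U := (Nat.card_eq_one_iff_unique.1 (by simpa using he)).1
    exact huv (Subsingleton.elim _ _)
  · exfalso
    have hc : IsCyclic U := isCyclic_of_prime_card (p := 2) (by simpa using he)
    exact huv (hc.isMulCommutative.is_comm.comm u v)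
  · exfalso
    have hc : IsMulCommutative U := IsPGroup.isMulCommutative_of_card_eq_prime_sq he
    exact huv (hc.is_comm.comm u v)
  · exact he

theorem exists_order_eight_of_aut {P : Type*} [Group P] [Finite P] (hP : IsPGroup 2 P)
    (hm : Cfsg.IsMetacyclic P) (U : Subgroup P) (x : P) (hxU : ∀ u ∈ U, MulAut.conj x u ∈ U)
    (hx2 : x ^ 2 ∈ U) (h : U) (hh : h⁻¹ * restrictAut (MulAut.conj x) U hxU h ∉ frattini U)
    (δ : MulAut U) {r : ℕ} [Fact r.Prime] (hr2 : r ≠ 2) (hδr : δ ^ r = 1) (hδ : δ ≠ 1) :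
    ∃ B : Subgroup P, Nat.card B = 2 ^ 3 ∧ ¬ IsMulCommutative B := by
  have : Fact (Nat.Prime 2) := ⟨Nat.prime_two⟩
  have hU : IsPGroup 2 U := hP.to_subgroup U
  have hmU : Cfsg.IsMetacyclic U := Cfsg.Agent.Lib.Helper68.isMetacyclic_subgroup hP hm U
  have h4 := index_frattini_le_of_metacyclic hU hmU
  obtain ⟨a, hp, hcase⟩ := meta_dichotomy hU hmU δ hr2 hδr hδ
  rcases hcase with hinf | ⟨-, hcard, u, v, huv⟩
  swap
  · exact ⟨U, card_eq_eight_of_le hU hcard huv, fun hc => huv (hc.is_comm.comm u v)⟩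
  generalize hκ : restrictAut (MulAut.conj x) U hxU = κ at hh
  have hκv : ((κ h : U) : P) = x * h * x⁻¹ := by
    rw [← hκ, restrictAut_apply, MulAut.conj_apply]
  have hord : orderOf (δ a) = orderOf a := MulEquiv.orderOf_eq δ a
  have hexp : ∀ w : U, w ^ orderOf a = 1 := by
    intro w
    have := hp.pow_mem (q := orderOf a) (by rw [pow_orderOf_eq_one]; exact one_mem _)
      (by rw [← hord, pow_orderOf_eq_one]; exact one_mem _) w
    rwa [hinf, mem_bot] at this
  have hcomm : ∀ w w' : U, w' * w = w * w' := by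
    intro w w'
    have := hp.comm_mem w w'
    rw [hinf, mem_bot] at this
    calc w' * w = (w' * w * w'⁻¹ * w⁻¹) * (w * w') := by group
      _ = w * w' := by rw [this, one_mul]
  have hnorm : ∀ H K : Subgroup U, K ≤ normalizer (H : Set U) := by
    intro H K k _
    rw [mem_normalizer_iff]
    intro y
    rw [hcomm y k, mul_inv_cancel_right]
  have hcardU := Cfsg.Agent.Lib.Helper14.card_mul_card_eq_of_le_normalizer
    (hnorm (zpowers a) (zpowers (δ a)))
  rw [hp.top, hinf, Nat.card_zpowers, Nat.card_zpowers, hord, Subgroup.card_top, Subgroup.card_bot,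
    mul_one] at hcardU
  have hhΦ : h ∉ frattini U := by
    intro h1
    exact hh (mul_mem (inv_mem h1) (aut_mem_frattini κ h1))
  have hκΦ : κ h ∉ frattini U := by
    intro h1
    apply hhΦ
    have := aut_mem_frattini κ⁻¹ h1
    rwa [MulAut.inv_apply_self] at this
  have htop : zpowers h ⊔ zpowers (κ h) = ⊤ := eq_top_of_indep h4
    (le_sup_left (a := zpowers h) (mem_zpowers h)) (le_sup_right (a := zpowers h) (mem_zpowers (κ h)))
    hhΦ hκΦ hh
  have hinf' : zpowers h ⊓ zpowers (κ h) = ⊥ := by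
    have e := Cfsg.Agent.Lib.Helper14.card_mul_card_eq_of_le_normalizer
      (hnorm (zpowers h) (zpowers (κ h)))
    rw [htop, Nat.card_zpowers, Nat.card_zpowers, Subgroup.card_top, ← hcardU] at e
    have hpos : 0 < orderOf a := orderOf_pos a
    have l1 : orderOf h ≤ orderOf a := orderOf_le_of_pow_eq_one hpos (hexp h)
    have l2 : orderOf (κ h) ≤ orderOf a := orderOf_le_of_pow_eq_one hpos (hexp _)
    have l3 : orderOf h * orderOf (κ h) ≤ orderOf a * orderOf a := Nat.mul_le_mul l1 l2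
    rw [e] at l3
    have l4 : Nat.card ↥(zpowers h ⊓ zpowers (κ h)) ≤ 1 := by
      have hpos2 : 0 < orderOf a * orderOf a := Nat.mul_pos hpos hpos
      exact Nat.le_of_mul_le_mul_left (by simpa using l3) hpos2
    have l5 : 0 < Nat.card ↥(zpowers h ⊓ zpowers (κ h)) := Nat.card_pos
    exact Subgroup.card_eq_one.1 (by omega)
  obtain ⟨_, ⟨i, rfl⟩, _, ⟨j, rfl⟩, hx2'⟩ :=
    (Cfsg.Agent.Lib.Helper14.mem_sup_of_le_normalizer (hnorm (zpowers h) (zpowers (κ h)))).1
      (htop ▸ mem_top (⟨x ^ 2, hx2⟩ : U))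
  have hx2'' : x ^ 2 = (h : P) ^ i * (x * h * x⁻¹) ^ j := by
    have := congrArg Subtype.val hx2'
    rw [← hκv]
    simpa using this
  obtain ⟨e, he⟩ := (IsPGroup.iff_orderOf.1 hU) h
  have he0 : e ≠ 0 := by
    rintro rfl
    rw [pow_zero, orderOf_eq_one_iff] at he
    exact hhΦ (he ▸ one_mem _)
  obtain ⟨m, rfl⟩ := Nat.exists_eq_succ_of_ne_zero he0
  refine exists_order_eight_of_swap (u := (h : P)) (x := x) (m := m) ?_ ?_ ?_ i j hx2''
  · rw [Subgroup.orderOf_coe, he]
  · rw [← hκv]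
    exact congrArg Subtype.val (hcomm (κ h) h)
  · rw [← hκv, eq_bot_iff]
    rintro g ⟨⟨k, hk⟩, ⟨l, hl⟩⟩
    have hk' : (h : P) ^ k = g := hk
    have hl' : ((κ h : U) : P) ^ l = g := hl
    have e1 : h ^ k = (κ h) ^ l := by
      apply Subtype.ext
      rw [Subgroup.coe_zpow, Subgroup.coe_zpow, hk', hl']
    have e2 : h ^ k ∈ zpowers h ⊓ zpowers (κ h) :=
      ⟨zpow_mem (mem_zpowers h) k, e1 ▸ zpow_mem (mem_zpowers (κ h)) l⟩
    rw [hinf', mem_bot] at e2
    rw [mem_bot, ← hk', ← Subgroup.coe_zpow, e2]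
    rfl

end Cfsg.Agent.Lib.Helper68.MT
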