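import Mathlib
import Cfsg.Agent.Lib.Helper68.MT1
import Cfsg.Agent.Lib.Helper89.OddStab
import Cfsg.Agent.Lib.Helper89.StabSubgroup
import Cfsg.Agent.Lib.Helper89.ChainStab

set_option autoImplicit false

/-! Automorphisms acting trivially on `R / H` that do not lie in `O_p` of an automorphism group. -/

namespace Cfsg.Agent.Lib.Helper68.MT

open Subgroup Cfsg.Agent.Lib.Helper77 Cfsg.Agent.Lib.Helper89

variable {R : Type*} [Group R] [Finite R]

theorem exists_pow_of_fix {p : ℕ} [Fact p.Prime] (hR : IsPGroup p R) (γ : MulAut R)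
    (H : Subgroup R) (hfix : ∀ x ∈ H, γ x = x) (hstab : ∀ x : R, x⁻¹ * γ x ∈ H) :
    ∃ k : ℕ, γ ^ (p ^ k) = 1 := by
  refine exists_pow_eq_one_of_stabilizes_chain hR γ 2
    (fun i => if i = 0 then ⊥ else if i = 1 then H else ⊤) (by simp) (by simp) ?_ ?_
  · intro i x hx
    by_cases h1 : i = 0
    · subst h1
      simp only [if_true, Subgroup.mem_bot] at hx ⊢
      rw [hx, map_one]
    · by_cases h2 : i = 1
      · subst h2
        simp only [one_ne_zero, if_false, if_true] at hx ⊢
        rw [hfix x hx]; exact hx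
      · simp only [h1, h2, if_false]
        trivial
  · intro i hi x hx
    by_cases h1 : i = 0
    · subst h1
      simp only [zero_add, one_ne_zero, if_false, if_true, Subgroup.mem_bot] at hx ⊢
      rw [hfix x hx, inv_mul_cancel]
    · have h2 : i = 1 := by omega
      subst h2
      simp only [one_ne_zero, if_false, if_true]
      exact hstab x

theorem exists_prime_restrict {p : ℕ} [Fact p.Prime] (hR : IsPGroup p R) (γ : MulAut R)
    (hcop : Nat.Coprime (orderOf γ) p) (hγ : γ ≠ 1) (H : Subgroup R) (hinv : ∀ x ∈ H, γ x ∈ H)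
    (hstab : ∀ x : R, x⁻¹ * γ x ∈ H) :
    ∃ m r : ℕ, r.Prime ∧ r ≠ p ∧ ((restrictAut γ H hinv) ^ m) ^ r = 1 ∧
      (restrictAut γ H hinv) ^ m ≠ 1 := by
  have h1 : orderOf γ ≠ 1 := fun h => hγ (orderOf_eq_one_iff.1 h)
  obtain ⟨r, hr, hrd⟩ := Nat.exists_prime_and_dvd h1
  have hrp : r ≠ p := by
    rintro rfl
    have := Nat.eq_one_of_dvd_coprimes hcop hrd dvd_rfl
    exact hr.one_lt.ne' this
  refine ⟨orderOf γ / r, r, hr, hrp, ?_, ?_⟩
  · rw [← pow_mul, Nat.div_mul_cancel hrd]
    ext x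
    rw [restrictAut_pow_apply, pow_orderOf_eq_one]
    rfl
  · intro hone
    have hfix : ∀ x ∈ H, (γ ^ (orderOf γ / r)) x = x := by
      intro x hx
      rw [← restrictAut_pow_apply γ H hinv _ ⟨x, hx⟩, hone]
      rfl
    obtain ⟨k, hk⟩ := exists_pow_of_fix hR (γ ^ (orderOf γ / r)) H hfix
      (fun x => pow_stab_mem γ H hinv x (hstab x) _)
    have ho : orderOf (γ ^ (orderOf γ / r)) = r :=
      orderOf_pow_orderOf_div (orderOf_pos γ).ne' hrd
    have hd : r ∣ p ^ k := ho ▸ orderOf_dvd_of_pow_eq_one hk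
    exact hrp ((Nat.prime_dvd_prime_iff_eq hr Fact.out).1 (hr.dvd_of_dvd_pow hd))

theorem exists_of_not_mem_pCore {p : ℕ} [Fact p.Prime] (hR : IsPGroup p R)
    (A : Subgroup (MulAut R)) (H : Subgroup R) (hH : ∀ α ∈ A, ∀ x ∈ H, α x ∈ H) (β : MulAut R)
    (hβ : β ∈ A) (hstab : ∀ x : R, x⁻¹ * β x ∈ H)
    (hnot : β ∉ (Cfsg.pCore p A).map A.subtype) :
    (∃ h : H, h⁻¹ * restrictAut β H (hH β hβ) h ∉ frattini H) ∧
      (∃ (δ : MulAut H) (r : ℕ), r.Prime ∧ r ≠ p ∧ δ ^ r = 1 ∧ δ ≠ 1) := by
  constructor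
  · by_contra hno
    push Not at hno
    apply hnot
    let U : Bool → Subgroup R := fun j => match j with
      | true => ⊤
      | false => H
    let V : Bool → Subgroup R := fun j => match j with
      | true => H
      | false => (frattini H).map H.subtype
    have hU : ∀ j, ∀ α ∈ A, ∀ x ∈ U j, α x ∈ U j := by
      intro j α hα x hx
      match j with
      | true => trivial
      | false => exact hH α hα x hx
    have hV : ∀ j, ∀ α ∈ A, ∀ x ∈ V j, α x ∈ V j := by
      intro j α hα x hx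
      match j with
      | true => exact hH α hα x hx
      | false =>
        obtain ⟨φ, hφ, rfl⟩ := hx
        exact ⟨restrictAut α H (hH α hα) φ, aut_mem_frattini _ hφ, rfl⟩
    have hKn := stabSubgroup_normal A U V hU hV
    have hKp : IsPGroup p (stabSubgroup A U V hU hV) := by
      apply isPGroup_of_coprime_trivial
      rintro ⟨γ, hγ⟩ hcop
      have hord : orderOf (γ : MulAut R) = orderOf (⟨γ, hγ⟩ : stabSubgroup A U V hU hV) := by
        rw [← Subgroup.orderOf_coe, ← Subgroup.orderOf_coe]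
      have h1 : (γ : MulAut R) = 1 := by
        by_contra hne
        obtain ⟨m, r, hr, hrp, hpow, hne1⟩ := exists_prime_restrict hR (γ : MulAut R)
          (hord ▸ hcop) hne H (hH _ γ.2) (fun x => hγ true x trivial)
        have : Fact r.Prime := ⟨hr⟩
        apply hne1
        apply eq_one_of_mem_trivOn (hR.to_subgroup H) hrp _ hpow
        apply Subgroup.pow_mem
        intro q
        obtain ⟨φ, hφ, e⟩ := hγ false q q.2
        have : φ = q⁻¹ * restrictAut (γ : MulAut R) H (hH _ γ.2) q := Subtype.ext e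
        rw [← this]
        exact hφ
      apply Subtype.ext
      apply Subtype.ext
      exact h1
    have hle : stabSubgroup A U V hU hV ≤ Cfsg.pCore p A := le_sSup ⟨hKn, hKp⟩
    refine ⟨⟨β, hβ⟩, hle ?_, rfl⟩
    intro j x hx
    match j with
    | true => exact hstab x
    | false => exact ⟨_, hno ⟨x, hx⟩, rfl⟩
  · by_contra hno
    push Not at hno
    apply hnot
    let U : Unit → Subgroup R := fun _ => ⊤
    let V : Unit → Subgroup R := fun _ => H
    have hU : ∀ j, ∀ α ∈ A, ∀ x ∈ U j, α x ∈ U j := fun _ _ _ _ _ => trivial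
    have hV : ∀ j, ∀ α ∈ A, ∀ x ∈ V j, α x ∈ V j := fun _ α hα x hx => hH α hα x hx
    have hKn := stabSubgroup_normal A U V hU hV
    have hKp : IsPGroup p (stabSubgroup A U V hU hV) := by
      apply isPGroup_of_coprime_trivial
      rintro ⟨γ, hγ⟩ hcop
      have hord : orderOf (γ : MulAut R) = orderOf (⟨γ, hγ⟩ : stabSubgroup A U V hU hV) := by
        rw [← Subgroup.orderOf_coe, ← Subgroup.orderOf_coe]
      have h1 : (γ : MulAut R) = 1 := by
        by_contra hne
        obtain ⟨m, r, hr, hrp, hpow, hne1⟩ := exists_prime_restrict hR (γ : MulAut R)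
          (hord ▸ hcop) hne H (hH _ γ.2) (fun x => hγ () x trivial)
        exact hne1 (hno _ r hr hrp hpow)
      apply Subtype.ext
      apply Subtype.ext
      exact h1
    have hle : stabSubgroup A U V hU hV ≤ Cfsg.pCore p A := le_sSup ⟨hKn, hKp⟩
    exact ⟨⟨β, hβ⟩, hle (fun _ x _ => hstab x), rfl⟩

end Cfsg.Agent.Lib.Helper68.MT
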