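import Cfsg.Agent.Lib.Helper53.JC2Defs
import Cfsg.Agent.Lib.Helper53.JCAll
import Cfsg.Agent.Lib.Helper30.Coprime

set_option autoImplicit false

/-! Ladder JC2, rung EXCL: `O₂(P)` is not elementary abelian in the `Bad` situation. -/

namespace Cfsg.Agent.Lib.Helper68.JC2

open Cfsg Subgroup
open scoped commutatorElement
open Cfsg.Agent.Lib.Helper53 Cfsg.Agent.Lib.Helper53.JC Cfsg.Agent.Lib.Helper53.JC2

variable {G : Type*} [Group G]

/-- an element of the abelian subgroup `V1` of index 2 in `T` commuting with an element of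
`T \ V1` is central in `T`. -/
theorem excl_key {T V1 : Subgroup G} (hidx : V1.relIndex T = 2)
    (hab : ∀ a ∈ V1, ∀ b ∈ V1, a * b = b * a)
    {a u : G} (ha : a ∈ V1) (hu : u ∈ T) (hu1 : u ∉ V1) (hau : a * u = u * a) :
    a ∈ centralizer (T : Set G) := by
  rw [mem_centralizer_iff]
  intro t ht
  by_cases h1 : t ∈ V1
  · exact hab t h1 a ha
  · have := Subgroup.mul_mem_iff_of_index_two (H := V1.subgroupOf T) hidx (a := ⟨t, ht⟩) (b := ⟨u, hu⟩)
    simp only [mem_subgroupOf, Subgroup.coe_mul] at this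
    have h2 : t * u ∈ V1 := this.2 ⟨fun h => absurd h h1, fun h => absurd h hu1⟩
    have h3 := hab _ h2 a ha
    calc t * a = t * (a * u) * u⁻¹ := by group
      _ = t * (u * a) * u⁻¹ := by rw [hau]
      _ = (t * u * a) * u⁻¹ := by group
      _ = (a * (t * u)) * u⁻¹ := by rw [h3]
      _ = a * t := by group

/-- every involution of `T` lies in `V1 ∪ V2`. -/
theorem excl_inv {T V1 V2 : Subgroup G} (hidx : V1.relIndex T = 2)
    (hab : ∀ a ∈ V1, ∀ b ∈ V1, a * b = b * a) (hV2T : V2 ≤ T)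
    (hc2 : centralizer (V2 : Set G) ≤ V2) (he1 : ∀ a ∈ V1, a * a = 1) (he2 : ∀ a ∈ V2, a * a = 1)
    (hne : ¬ V2 ≤ V1) {u : G} (hu : u ∈ T) (hu2 : u * u = 1) (hu1 : u ∉ V1) : u ∈ V2 := by
  obtain ⟨v2, hv2, hv21⟩ := SetLike.not_le_iff_exists.1 hne
  have := Subgroup.mul_mem_iff_of_index_two (H := V1.subgroupOf T) hidx (a := ⟨u, hu⟩)
    (b := ⟨v2, hV2T hv2⟩)
  simp only [mem_subgroupOf, Subgroup.coe_mul] at this
  have h2 : u * v2 ∈ V1 := this.2 ⟨fun h => absurd h hu1, fun h => absurd h hv21⟩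
  have h3 := he1 _ h2
  have h4 : (u * v2) * v2 = v2 * (u * v2) := by
    calc (u * v2) * v2 = u * (v2 * v2) := by group
      _ = u := by rw [he2 _ hv2, mul_one]
      _ = u⁻¹ * (u * u) := by group
      _ = u⁻¹ := by rw [hu2, mul_one]
      _ = u⁻¹ * (u * v2 * (u * v2)) := by rw [h3, mul_one]
      _ = v2 * (u * v2) := by group
  have h5 := hc2 (centralizer_le hV2T (excl_key hidx hab h2 (hV2T hv2) hv21 h4))
  have : u = (u * v2) * v2⁻¹ := by group
  rw [this]
  exact V2.mul_mem h5 (V2.inv_mem hv2)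

/-- exponent 2 implies abelian. -/
theorem excl_comm {V : Subgroup G} (he : ∀ a ∈ V, a * a = 1) : ∀ a ∈ V, ∀ b ∈ V, a * b = b * a := by
  intro a ha b hb
  have h1 := he _ (V.mul_mem ha hb)
  symm
  calc b * a = (a * b * (a * b)) * (b * a) := by rw [h1, one_mul]
    _ = a * b * a * (b * b) * a := by group
    _ = a * b * (a * a) := by rw [he b hb]; group
    _ = a * b := by rw [he a ha, mul_one]

/-- a group normalizing a subgroup of order at most 2 centralizes it. -/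
theorem excl_cent_of_card {V S : Subgroup G} (hn : S ≤ normalizer (V : Set G))
    (hc : Nat.card ↥V = 1 ∨ Nat.card ↥V = 2) : S ≤ centralizer (V : Set G) := by
  intro s hs
  rw [mem_centralizer_iff]
  intro v hv
  rcases hc with hc | hc
  · have : V = ⊥ := Subgroup.card_eq_one.1 hc
    rw [SetLike.mem_coe, this, Subgroup.mem_bot] at hv
    rw [hv]; simp
  · by_cases hv1 : v = 1
    · rw [hv1]; simp
    · obtain ⟨z, _, hz⟩ := (Nat.card_eq_two_iff' (1 : V)).1 hc
      have e1 := hz ⟨v, hv⟩ (fun h => hv1 (congrArg Subtype.val h))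
      have hv' : s * v * s⁻¹ ∈ V := (mem_normalizer_iff.1 (hn hs) _).1 hv
      have e2 := hz ⟨s * v * s⁻¹, hv'⟩ (fun h => hv1 (by
        have := congrArg Subtype.val h
        simpa using this))
      have e3 : s * v * s⁻¹ = v := congrArg Subtype.val (e2.trans e1.symm)
      calc v * s = (s * v * s⁻¹) * s := by rw [e3]
        _ = s * v := by group

/-- first half of EXCL: `V = Ω₁Z(O₂(L)) ≤ Ω₁Z(T)`. -/
theorem excl_V_le [Finite G] {S : Sylow 2 G} {L T K L₁ : Subgroup G} (hb : Bad S L)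
    (hTS : T ≤ (S : Subgroup G)) (f : AF S T K L₁) (p : PPr T K L₁) {x : G}
    (hxS : x ∈ (S : Subgroup G)) (hxN : x ∈ normalizer (T : Set G)) (hx2 : x * x ∈ T) (hxL : x ∉ L₁)
    (hexp : ∀ g ∈ pCoreOf 2 (K ⊔ T), g * g = 1) : VVL L ≤ omegaCenterOf T := by
  have hsylP : IsSyl 2 T (K ⊔ T) := isSylowTwoIn_iff.1 p.syl
  have hV1T : pCoreOf 2 (K ⊔ T) ≤ T := pCoreOf_le_isSyl hsylP
  have hab := excl_comm hexp
  have hPN : K ⊔ T ≤ normalizer (pCoreOf 2 (K ⊔ T) : Set G) := le_normalizer_pCoreOf 2 _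
  have hcen := p.cen
  have h6 := p.h6
  have hodd := p.syl.2.2
  generalize pCoreOf 2 (K ⊔ T) = V1 at *
  have hidx : V1.relIndex T = 2 := by
    have e := Subgroup.relIndex_mul_relIndex V1 T (K ⊔ T) hV1T le_sup_right
    rw [h6] at e
    obtain ⟨n, hn⟩ := f.hT2.index (V1.subgroupOf T)
    change V1.relIndex T = 2 ^ n at hn
    obtain ⟨m, hm⟩ := hodd
    rw [hn] at e ⊢
    rw [hm] at e
    rcases n with _ | _ | n
    · omega
    · rfl
    · exfalso
      have : 2 ^ (n + 1 + 1) = 4 * 2 ^ n := by ring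
      rw [this] at e
      have h4 : 4 ∣ 6 := ⟨2 ^ n * (2 * m + 1), by rw [← e]; ring⟩
      omega
  have hV1ne : V1 ≠ ⊥ := by
    intro h0
    apply f.hT1
    rw [eq_bot_iff, ← h0]
    intro t _
    apply hcen
    rw [mem_centralizer_iff]
    intro v hv
    rw [SetLike.mem_coe, h0, Subgroup.mem_bot] at hv
    rw [hv]; simp
  have hV12 : IsPGroup 2 ↥V1 := f.hT2.to_le hV1T
  have hNL : normalizer (V1 : Set G) ≤ L₁ :=
    f.a1 _ ⟨V1, hV12, hV1ne, rfl⟩ ((sup_le_sup_left (JJ_le T) K).trans hPN)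
  have hxV1 : x ∉ normalizer (V1 : Set G) := fun h => hxL (hNL h)
  have hV2T : cjj x V1 ≤ T := by
    calc cjj x V1 ≤ cjj x T := cj_mono x hV1T
      _ = T := cj_eq_self_iff.2 hxN
  have hV2V1 : cjj x (cjj x V1) = V1 := by
    unfold cjj
    rw [cj_cj]; exact cj_eq_self_iff.2 (hPN (le_sup_right (a := K) hx2))
  have hne : ¬ cjj x V1 ≤ V1 := fun h => hxV1 (cj_eq_self_iff.1 (cj_eq_of_le h))
  have hc2 : centralizer (cjj x V1 : Set G) ≤ cjj x V1 := by
    rw [centralizer_cj]; exact cj_mono x hcen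
  have he2 : ∀ a ∈ cjj x V1, a * a = 1 := by
    rintro _ ⟨y, hy, rfl⟩
    have := hexp y hy
    simp only [MulEquiv.coe_toMonoidHom, MulAut.conj_apply]
    calc x * y * x⁻¹ * (x * y * x⁻¹) = x * (y * y) * x⁻¹ := by group
      _ = 1 := by rw [this]; group
  have hNS : ∀ s ∈ (S : Subgroup G), s ∈ normalizer (V1 : Set G) → s ∈ T := by
    have := f.a9 ((S : Subgroup G) ⊓ normalizer (V1 : Set G)) (S.2.to_inf_left)
      (le_inf hTS (le_sup_right.trans hPN)) (inf_le_right.trans hNL)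
    intro s h1 h2
    rw [← this]; exact ⟨h1, h2⟩
  have hSL : (S : Subgroup G) ≤ L := hb.2.1.1.1
  have hVPE := omegaCenterOf_PE (pCoreOf 2 L)
  have hLV : L ≤ normalizer (VVL L : Set G) :=
    (le_normalizer_pCoreOf 2 L).trans (normalizer_le_normalizer_omegaCenterOf _)
  have hVS : VVL L ≤ S :=
    (omegaCenterOf_le _).trans (pCoreOf_le_isSyl (isSylowTwoIn_iff.1 hb.2.1.1))
  have hA : ∀ u ∈ VVL L, u ∈ T → u ∈ V1 := by
    intro u hu huT
    by_contra hu1
    have hu2 : u * u = 1 := by have := hVPE.2 u hu; rwa [pow_two] at this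
    have huV2 : u ∈ cjj x V1 := excl_inv hidx hab hV2T hc2 hexp he2 hne huT hu2 hu1
    have hu' : x * u * x⁻¹ ∈ VVL L := (mem_normalizer_iff.1 (hLV (hSL hxS)) u).1 hu
    have hu'1 : x * u * x⁻¹ ∈ V1 := by rw [← hV2V1]; exact cj_mem x huV2
    have hcomm : (x * u * x⁻¹) * u = u * (x * u * x⁻¹) := hVPE.1 _ hu' _ hu
    have := hc2 (centralizer_le hV2T (excl_key hidx hab hu'1 huT hu1 hcomm))
    rw [mem_cj] at this
    apply hu1
    simpa [mul_assoc] using this
  have hC : VVL L ≤ V1 := by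
    by_contra hcon
    have hlt : V1 < V1 ⊔ VVL L :=
      lt_of_le_of_ne le_sup_left (fun h => hcon (by rw [h]; exact le_sup_right))
    have h2 : IsPGroup 2 ↥(V1 ⊔ VVL L) := S.2.to_le (sup_le (hV1T.trans hTS) hVS)
    obtain ⟨t, ht, htN, htV⟩ := Helper30.exists_mem_normalizer_not_mem h2 hlt
    obtain ⟨a, ha, n, hn, rfl⟩ :=
      (mem_sup_of_le_normalizer (((hV1T.trans hTS).trans hSL).trans hLV)).1 ht
    have hnN : n ∈ normalizer (V1 : Set G) := by
      have := mul_mem (inv_mem (le_normalizer ha)) htN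
      simpa using this
    exact htV (V1.mul_mem ha (hA n hn (hNS n (hVS hn) hnN)))
  have hD : VVL L ≤ cjj x V1 := by
    intro u hu
    rw [mem_cj]
    have := (mem_normalizer_iff.1 (inv_mem (hLV (hSL hxS))) u).1 hu
    rw [inv_inv] at this
    exact hC this
  intro u hu
  obtain ⟨v2, hv2, hv21⟩ := SetLike.not_le_iff_exists.1 hne
  exact mem_omegaCenterOf (hV1T (hC hu))
    (excl_key hidx hab (hC hu) (hV2T hv2) hv21 (excl_comm he2 _ (hD hu) _ hv2)) (hVPE.2 u hu)

theorem excl [Finite G] (zn : ZN G) {S : Sylow 2 G} {L T K L₁ : Subgroup G} (hb : Bad S L)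
    (hTS : T ≤ (S : Subgroup G)) (f : AF S T K L₁) (h : Concl51 S T K L₁) (p : PPr T K L₁) {x : G}
    (hxS : x ∈ (S : Subgroup G)) (hxN : x ∈ normalizer (T : Set G)) (hx2 : x * x ∈ T) (hxL : x ∉ L₁)
    (hexp : ∀ g ∈ pCoreOf 2 (K ⊔ T), g * g = 1) : False := by
  have hVZ := excl_V_le hb hTS f p hxS hxN hx2 hxL hexp
  have hVZ0 : VVL L ≤ omegaCenterOf (JJ T) := hVZ.trans f.a4'
  have hSL : (S : Subgroup G) ≤ L := hb.2.1.1.1
  have hLV : L ≤ normalizer (VVL L : Set G) :=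
    (le_normalizer_pCoreOf 2 L).trans (normalizer_le_normalizer_omegaCenterOf _)
  obtain ⟨_, hZV, hCN, hSC, _, _⟩ := zn_core1 zn (S : Subgroup G) L S.2 hb.2.1
  have hJ : ¬ JJ (S : Subgroup G) ≤ pCoreOf 2 L := hb.2.1.2.1
  have hSnQ : ¬ (S : Subgroup G) ≤ pCoreOf 2 L := fun h0 => hJ ((JJ_le _).trans h0)
  have hSnC : ¬ (S : Subgroup G) ≤ centralizer (VVL L : Set G) := by
    intro h0
    apply hSnQ
    exact (le_inf le_rfl (le_inf hSL h0)).trans hSC.le
  have hcase : Nat.card ↥(omegaCenterOf (JJ T)) = 4 := by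
    rcases h.2 with h1 | h1 | h1
    · exfalso; apply hSnC
      rw [le_centralizer_iff]
      exact (hVZ0.trans h1.1.ge).trans (omegaCenterOf_le_centralizer _)
    · exfalso; apply hSnC
      rw [le_centralizer_iff]
      exact (hVZ0.trans h1.1.ge).trans (omegaCenterOf_le_centralizer _)
    · exact h1.2.1
  have hVeq : VVL L = omegaCenterOf (JJ T) := by
    by_contra hne
    apply hSnC
    apply excl_cent_of_card (hSL.trans hLV)
    have hd : Nat.card ↥(VVL L) ∣ 4 := hcase ▸ Subgroup.card_dvd_of_le hVZ0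
    have hne4 : Nat.card ↥(VVL L) ≠ 4 :=
      fun h4 => hne (Subgroup.eq_of_le_of_card_ge hVZ0 (by rw [h4, hcase]))
    have hle : Nat.card ↥(VVL L) ≤ 4 := Nat.le_of_dvd (by omega) hd
    generalize Nat.card ↥(VVL L) = c at *
    interval_cases c <;> omega
  have hPE := omegaCenterOf_PE (JJ T)
  -- no conjugate of `S` lies in `L₁`
  have hNC : ∀ g : G, ¬ cjj g (S : Subgroup G) ≤ L₁ := by
    intro g hg
    have hsylL : IsSyl 2 T L₁ := isSylowTwoIn_iff.1 f.syl
    obtain ⟨R, hR, hgR⟩ := exists_isSyl_ge hg (isPGroup_cj S.2 g)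
    obtain ⟨k, hk, rfl⟩ := hsylL.exists_conj hR
    have h1 : Nat.card (S : Subgroup G) ≤ Nat.card T := by
      rw [← card_cj (S : Subgroup G) g, ← card_cj T k]
      exact Subgroup.card_le_of_le hgR
    have h2 : T = S := Subgroup.eq_of_le_of_card_ge hTS h1
    exact hxL (f.syl.1 (by rw [h2]; exact hxS))
  -- `Y = Z₀ ⊓ C(K)` of order 2
  have hY2 : Nat.card ↥(omegaCenterOf (JJ T) ⊓ centralizer (K : Set G)) = 2 := by
    have := f.a5 K f.jc
    omega
  have hidx : ((omegaCenterOf (JJ T) ⊓ centralizer (K : Set G)).subgroupOf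
      (omegaCenterOf (JJ T))).index = 2 := by
    have hc := Subgroup.relIndex_mul_relIndex ⊥ (omegaCenterOf (JJ T) ⊓ centralizer (K : Set G))
      (omegaCenterOf (JJ T)) bot_le inf_le_left
    rw [Subgroup.relIndex_bot_left, Subgroup.relIndex_bot_left, hY2, hcase] at hc
    change (omegaCenterOf (JJ T) ⊓ centralizer (K : Set G)).relIndex (omegaCenterOf (JJ T)) = 2
    omega
  obtain ⟨y0', hy0', hy0u⟩ :=
    (Nat.card_eq_two_iff' (1 : ↥(omegaCenterOf (JJ T) ⊓ centralizer (K : Set G)))).1 hY2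
  obtain ⟨y, hyY⟩ := y0'
  have hy1 : y ≠ 1 := fun h => hy0' (Subtype.ext h)
  have hYel : ∀ w ∈ omegaCenterOf (JJ T) ⊓ centralizer (K : Set G), w = 1 ∨ w = y := by
    intro w hw
    by_cases h : w = 1
    · exact Or.inl h
    · exact Or.inr (congrArg Subtype.val (hy0u ⟨w, hw⟩ (fun h' => h (congrArg Subtype.val h'))))
  have hCy : centralizer {y} ≤ L₁ := f.a3 y hyY.1 hyY.2 hy1
  have hzy : ∀ z ∈ omegaCenterOf (S : Subgroup G), ∀ g : G, g * z * g⁻¹ ≠ y := by
    intro z hz g hg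
    apply hNC g
    refine le_trans ?_ hCy
    rintro _ ⟨s, hs, rfl⟩
    rw [mem_centralizer_singleton_iff, ← hg]
    have := (mem_centralizer_iff.1 (omegaCenterOf_le_centralizer _ hz)) s hs
    simp only [MulEquiv.coe_toMonoidHom, MulAut.conj_apply]
    calc g * s * g⁻¹ * (g * z * g⁻¹) = g * (s * z) * g⁻¹ := by group
      _ = g * (z * s) * g⁻¹ := by rw [this]
      _ = g * z * g⁻¹ * (g * s * g⁻¹) := by group
  have hLZ0 : L ≤ normalizer (omegaCenterOf (JJ T) : Set G) := hVeq ▸ hLV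
  have hy'Z : x * y * x⁻¹ ∈ omegaCenterOf (JJ T) :=
    (mem_normalizer_iff.1 (hLZ0 (hSL hxS)) y).1 hyY.1
  have hy'y : x * y * x⁻¹ ≠ y := by
    intro h0
    apply hxL
    apply hCy
    rw [mem_centralizer_singleton_iff]
    calc x * y = (x * y * x⁻¹) * x := by group
      _ = y * x := by rw [h0]
  have hy'1 : x * y * x⁻¹ ≠ 1 := by
    intro h0
    apply hy1
    calc y = x⁻¹ * (x * y * x⁻¹) * x := by group
      _ = 1 := by rw [h0]; group
  have hy'Y : x * y * x⁻¹ ∉ omegaCenterOf (JJ T) ⊓ centralizer (K : Set G) := by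
    intro h0
    rcases hYel _ h0 with h1 | h1
    · exact hy'1 h1
    · exact hy'y h1
  have hfour : ∀ w ∈ omegaCenterOf (JJ T), w ≠ 1 → w ≠ y → w ≠ x * y * x⁻¹ →
      w = y * (x * y * x⁻¹)⁻¹ := by
    intro w hw h1 h2 h3
    have hwY : w ∉ omegaCenterOf (JJ T) ⊓ centralizer (K : Set G) := by
      intro h0
      rcases hYel _ h0 with h | h
      · exact h1 h
      · exact h2 h
    have := Subgroup.mul_mem_iff_of_index_two hidx (a := ⟨w, hw⟩) (b := ⟨x * y * x⁻¹, hy'Z⟩)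
    simp only [mem_subgroupOf, Subgroup.coe_mul] at this
    have h4 := this.2 ⟨fun h => absurd h hwY, fun h => absurd h hy'Y⟩
    rcases hYel _ h4 with h | h
    · exfalso
      apply h3
      have e := hPE.2 _ hy'Z
      rw [pow_two] at e
      calc w = (w * (x * y * x⁻¹)) * (x * y * x⁻¹)⁻¹ := by group
        _ = (x * y * x⁻¹ * (x * y * x⁻¹)) * (x * y * x⁻¹)⁻¹ := by rw [h, e]
        _ = x * y * x⁻¹ := by group
    · calc w = (w * (x * y * x⁻¹)) * (x * y * x⁻¹)⁻¹ := by group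
        _ = y * (x * y * x⁻¹)⁻¹ := by rw [h]
  have hconj_ne : ∀ z ∈ omegaCenterOf (S : Subgroup G), z ≠ 1 → ∀ l ∈ L,
      l * z * l⁻¹ = y * (x * y * x⁻¹)⁻¹ := by
    intro z hz hz1 l hl
    have hzZ0 : z ∈ omegaCenterOf (JJ T) := hVeq ▸ hZV hz
    apply hfour _ ((mem_normalizer_iff.1 (hLZ0 hl) z).1 hzZ0)
    · intro h0
      apply hz1
      calc z = l⁻¹ * (l * z * l⁻¹) * l := by group
        _ = 1 := by rw [h0]; group
    · exact hzy z hz l
    · intro h0
      apply hzy z hz (x⁻¹ * l)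
      calc x⁻¹ * l * z * (x⁻¹ * l)⁻¹ = x⁻¹ * (l * z * l⁻¹) * x := by group
        _ = y := by rw [h0]; group
  have hLC : L ≤ centralizer (omegaCenterOf (S : Subgroup G) : Set G) := by
    intro l hl
    rw [mem_centralizer_iff]
    intro z hz
    by_cases hz1 : z = 1
    · rw [hz1]; simp
    · have e1 := hconj_ne z hz hz1 l hl
      have e2 := hconj_ne z hz hz1 1 L.one_mem
      have e3 : l * z * l⁻¹ = z := by rw [e1, ← e2]; group
      calc z * l = (l * z * l⁻¹) * l := by rw [e3]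
        _ = l * z := by group
  apply hSnQ
  exact le_pCoreOf hSL ((le_inf le_rfl hLC).trans hCN) S.2

end Cfsg.Agent.Lib.Helper68.JC2
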